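import Cfsg.Agent.ClassicalMax.Subfield.Odd.Rigid

/-!
A rational totally singular 3-space whose sum with a given line without rational points has no further rational
points.
-/

set_option autoImplicit false
set_option linter.unusedSectionVars false
set_option linter.style.haveILetI false

namespace Cfsg.Agent.ClassicalMax.Subfield.Odd

open Module QuadraticMap Cfsg.Agent.Classical Cfsg.Agent.Classical.Quad
open Cfsg.Agent.ClassicalMax.RootPlanes (NdOn perpS mem_perpS finrank_perpS)

variable {ι : Type} [Fintype ι] [DecidableEq ι] {F : Type*} [Field F] [Fintype F] {F₀ : Subfield F}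
  {Q : QuadraticForm F (ι → F)}

/-- no new rational points in the sum with `L` -/
def Good (F₀ : Subfield F) (L : Submodule F (ι → F)) (U : Submodule F₀ (ι → F₀)) : Prop :=
  ∀ c, up c ∈ rsp U ⊔ L → c ∈ U

/-- the vectors spoiling a good subspace lie in a small subspace -/
theorem exists_bad_bound (h : RForm F₀ Q) {L : Submodule F (ι → F)} (hL : finrank F L ≤ 2)
    {U : Submodule F₀ (ι → F₀)} (hU : Good F₀ L U) :
    ∃ X : Submodule F₀ (ι → F₀), U ≤ X ∧ finrank F₀ X ≤ finrank F₀ U + 4 ∧
      (finrank F₀ X ≤ finrank F₀ U + 2 ∨ L ≤ rsp X) ∧ ∀ w, w ∉ X → Good F₀ L (U ⊔ Submodule.span F₀ {w}) := by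
  have hdata : ∀ w, ¬ Good F₀ L (U ⊔ Submodule.span F₀ {w}) → ∃ (Xw : Submodule F₀ (ι → F₀)) (π : ι → F),
      U ≤ Xw ∧ w ∈ Xw ∧ finrank F₀ Xw ≤ finrank F₀ U + 2 ∧ π ∈ L ∧ π ∈ rsp Xw ∧ π ∉ rsp U := by
    intro w hw
    simp only [Good] at hw
    push Not at hw
    obtain ⟨c, hc, hcn⟩ := hw
    obtain ⟨p, hp, π, hπ, e⟩ := Submodule.mem_sup.1 hc
    refine ⟨U ⊔ Submodule.span F₀ {w, c}, π, le_sup_left,
      Submodule.mem_sup_right (Submodule.subset_span (by simp)), ?_, hπ, ?_, fun hπU => hcn (h.mem_rsp_iff.1 ?_)⟩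
    · exact (Submodule.finrank_add_le_finrank_add_finrank _ _).trans
        (Nat.add_le_add_left (finrank_span_pair_le w c) _)
    · rw [show π = up c - p by rw [← e]; abel]
      exact Submodule.sub_mem _ (up_mem_rsp (Submodule.mem_sup_right (Submodule.subset_span (by simp))))
        (rsp_mono (sup_le_sup_left (Submodule.span_mono (by simp)) _) hp)
    · rw [← e]
      exact Submodule.add_mem _ hp (rsp_mono le_sup_left hπU)
  have claim : ∀ {X Xw : Submodule F₀ (ι → F₀)} {w : ι → F₀} {π : ι → F}, U ≤ X → U ≤ Xw → w ∈ Xw →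
      finrank F₀ Xw ≤ finrank F₀ U + 2 → π ∈ L → π ∈ rsp Xw → π ∉ rsp U → π ∈ rsp X → w ∈ X := by
    intro X Xw w π hUX hUXw hw hdim hπL hπ hπU hπX
    have hY := h.rsp_inter hπ hπX
    set Y := Xw ⊓ X with hYd
    rcases Nat.lt_or_ge (finrank F₀ Y) (finrank F₀ U + 2) with hlt | hge
    · exfalso
      obtain ⟨r, hr, hrU⟩ : ∃ r ∈ Y, r ∉ U := by
        by_contra! hall
        exact hπU (rsp_mono hall hY)
      have hUY : U ≤ Y := le_inf hUXw hUX
      have hlt' : U < U ⊔ Submodule.span F₀ {r} := lt_of_le_of_ne le_sup_left fun e =>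
        hrU (e ▸ Submodule.mem_sup_right (Submodule.mem_span_singleton_self r))
      have h3 := Submodule.finrank_lt_finrank_of_lt hlt'
      have e : U ⊔ Submodule.span F₀ {r} = Y := Submodule.eq_of_le_of_finrank_le
        (sup_le hUY ((Submodule.span_singleton_le_iff_mem _ _).2 hr)) (by omega)
      rw [← e, rsp_sup, rsp_span_singleton] at hY
      obtain ⟨u, hu, v, hv, e'⟩ := Submodule.mem_sup.1 hY
      obtain ⟨k, rfl⟩ := Submodule.mem_span_singleton.1 hv
      have hk : k ≠ 0 := fun hk => hπU (by rw [← e', hk, zero_smul, add_zero]; exact hu)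
      refine hrU (hU r ?_)
      rw [← Submodule.smul_mem_iff _ hk, show k • up r = -u + π by rw [← e']; abel]
      exact Submodule.add_mem _ (Submodule.mem_sup_left (Submodule.neg_mem _ hu)) (Submodule.mem_sup_right hπL)
    · have e : Y = Xw := Submodule.eq_of_le_of_finrank_le inf_le_left (by omega)
      exact (e ▸ hw : w ∈ Y).2
  by_cases hno : ∀ w, w ∉ U → Good F₀ L (U ⊔ Submodule.span F₀ {w})
  · exact ⟨U, le_rfl, by omega, Or.inl (by omega), hno⟩
  push Not at hno
  obtain ⟨w1, -, hw1⟩ := hno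
  obtain ⟨X1, π1, hU1, -, hd1, hπ1L, hπ1, hπ1U⟩ := hdata w1 hw1
  by_cases h2 : ∀ w, w ∉ X1 → Good F₀ L (U ⊔ Submodule.span F₀ {w})
  · exact ⟨X1, hU1, by omega, Or.inl hd1, h2⟩
  push Not at h2
  obtain ⟨w2, hw2X, hw2⟩ := h2
  obtain ⟨X2, π2, hU2, hw2m, hd2, hπ2L, hπ2, hπ2U⟩ := hdata w2 hw2
  have hind : π2 ∉ Submodule.span F ({π1} : Set (ι → F)) := fun hm =>
    hw2X (claim hU1 hU2 hw2m hd2 hπ2L hπ2 hπ2U ((Submodule.span_singleton_le_iff_mem _ _).2 hπ1 hm))
  have hπ10 : π1 ≠ 0 := fun e => hπ1U (e ▸ Submodule.zero_mem _)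
  have h2dim : 2 ≤ finrank F (Submodule.span F ({π1, π2} : Set (ι → F))) := by
    have hlt : Submodule.span F ({π1} : Set (ι → F)) < Submodule.span F {π1, π2} :=
      lt_of_le_of_ne (Submodule.span_mono (by simp)) fun e => hind (e ▸ Submodule.subset_span (by simp))
    have := Submodule.finrank_lt_finrank_of_lt hlt
    rw [finrank_span_singleton hπ10] at this
    omega
  have hLX : L ≤ rsp (X1 ⊔ X2) := by
    rw [← Submodule.eq_of_le_of_finrank_le (show Submodule.span F ({π1, π2} : Set (ι → F)) ≤ L from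
      Submodule.span_le.2 (by rintro v (rfl | rfl) <;> assumption)) (by omega), Submodule.span_le]
    rintro v (rfl | rfl)
    · exact rsp_mono le_sup_left hπ1
    · exact rsp_mono le_sup_right hπ2
  refine ⟨X1 ⊔ X2, hU1.trans le_sup_left, ?_, Or.inr hLX, fun w hw => by_contra fun hg => hw ?_⟩
  · have h1 := Submodule.finrank_sup_add_finrank_inf_eq X1 X2
    have h2 := Submodule.finrank_mono (le_inf hU1 hU2)
    omega
  · obtain ⟨X3, π3, hU3, hw3, hd3, hπ3L, hπ3, hπ3U⟩ := hdata w hg
    exact claim (hU1.trans le_sup_left) hU3 hw3 hd3 hπ3L hπ3 hπ3U (hLX hπ3L)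

/-- the totally singular 3-space -/
theorem exists_space (h : RForm F₀ Q) (hn : 7 ≤ Fintype.card ι) {L : Submodule F (ι → F)} (hL : finrank F L = 2)
    (hrat : ∀ c : ι → F₀, up c ∈ L → c = 0) :
    ∃ W : Submodule F₀ (ι → F₀), h.TS W ∧ finrank F₀ W = 3 ∧ Good F₀ L W := by
  let K0 : Submodule F₀ (ι → F₀) :=
    { carrier := {c | ∀ π ∈ L, polar Q π (up c) = 0}
      zero_mem' := fun π _ => by rw [map_zero, polar_zero_right]
      add_mem' := fun {a b} ha hb π hπ => by rw [map_add, polar_add_right, ha π hπ, hb π hπ, add_zero]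
      smul_mem' := fun t a ha π hπ => by rw [up_smul, polar_smul_right, ha π hπ, smul_zero] }
  have hK0 : finrank F₀ K0 + 3 ≤ Fintype.card ι := by
    by_contra hlt
    have hdim := h.finrank_perp₀ K0
    have hle : L ≤ rsp (perpS h.q K0) := fun π hπ => h.mem_rsp_of_perp fun u hu =>
      (h.mem_perp_perp (U := K0) (x := u) fun s hs => by rw [polar_comm]; exact hu s hs) π hπ
    have h1 := finrank_rsp_le (perpS h.q K0)
    have e := Submodule.eq_of_le_of_finrank_le hle (by omega)
    obtain ⟨c, hc, hc0⟩ := Submodule.exists_mem_ne_zero_of_ne_bot (p := perpS h.q K0) fun e' => by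
      rw [e', rsp_bot] at e
      rw [e, finrank_bot] at hL
      omega
    exact hc0 (hrat c (e ▸ up_mem_rsp hc))
  have hgood0 : Good F₀ L ⊥ := fun c hc => by
    rw [rsp_bot, bot_sup_eq] at hc
    rw [hrat c hc]; exact Submodule.zero_mem _
  -- the first vector
  obtain ⟨X0, -, hX0, -, hgood1⟩ := exists_bad_bound h (le_of_eq hL) hgood0
  rw [finrank_bot] at hX0
  have hperp0 : perpS h.q ⊥ = ⊤ := eq_top_iff.2 fun x _ => mem_perpS.2 fun w hw => by
    rw [(Submodule.mem_bot _).1 hw, polar_zero_left]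
  obtain ⟨v, -, hv, hvX, hvK⟩ := h.exists_out_two h.ts_bot (by rw [finrank_bot]; omega) X0 K0 bot_le bot_le
    (fun hle => by
      have h1 := Submodule.finrank_mono hle
      rw [hperp0, finrank_top, Module.finrank_fintype_fun_eq_card] at h1
      omega)
    (fun hle => by
      have h1 := Submodule.finrank_mono hle
      rw [hperp0, finrank_top, Module.finrank_fintype_fun_eq_card] at h1
      omega)
  have hv0 : v ≠ 0 := fun e => hvX (e ▸ X0.zero_mem)
  have hg1 := hgood1 v hvX
  rw [bot_sup_eq] at hg1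
  -- the second
  obtain ⟨X1, hU1, hX1, -, hgood2⟩ := exists_bad_bound h (le_of_eq hL) hg1
  rw [finrank_span_singleton hv0] at hX1
  have hpv := h.finrank_perp₀ (Submodule.span F₀ {v})
  rw [finrank_span_singleton hv0] at hpv
  obtain ⟨w, hvw, hw, hwX, hwK⟩ := h.exists_out_two (h.ts_singleton hv) (by rw [finrank_span_singleton hv0]; omega)
    X1 (K0 ⊔ Submodule.span F₀ {v}) hU1 le_sup_right
    (fun hle => by
      have h1 := Submodule.finrank_mono hle
      omega)
    (fun hle => by
      have h1 := (Submodule.finrank_mono hle).trans (Submodule.finrank_add_le_finrank_add_finrank _ _)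
      rw [finrank_span_singleton hv0] at h1
      omega)
  have hvwp := mem_perp_singleton.1 hvw
  have hwv : w ∉ Submodule.span F₀ ({v} : Set (ι → F₀)) := fun hm => hwX (hU1 hm)
  obtain ⟨U, hU⟩ : ∃ U, U = Submodule.span F₀ ({v, w} : Set (ι → F₀)) := ⟨_, rfl⟩
  have hU' : Submodule.span F₀ ({v} : Set (ι → F₀)) ⊔ Submodule.span F₀ {w} = U := by
    rw [hU, Submodule.span_insert]
  have hg2 := hgood2 w hwX
  rw [hU'] at hg2
  have hU2 : finrank F₀ U = 2 := by
    have h1 := finrank_span_pair_le (K := F₀) v w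
    rw [← hU] at h1
    have hlt : Submodule.span F₀ ({v} : Set (ι → F₀)) < U :=
      lt_of_le_of_ne (hU ▸ Submodule.span_mono (by simp)) fun e =>
        hwv (e ▸ hU ▸ Submodule.subset_span (by simp))
    have h2 := Submodule.finrank_lt_finrank_of_lt hlt
    rw [finrank_span_singleton hv0] at h2
    omega
  have hUK : ∀ c ∈ U, c ∈ K0 → c = 0 := fun c hc hcK => by
    rw [hU] at hc
    obtain ⟨s, t, rfl⟩ := Submodule.mem_span_pair.1 hc
    rcases eq_or_ne t 0 with rfl | ht
    · rw [zero_smul, add_zero] at hcK ⊢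
      rcases eq_or_ne s 0 with rfl | hs
      · rw [zero_smul]
      · exact absurd ((Submodule.smul_mem_iff _ hs).1 hcK) hvK
    · refine absurd ((Submodule.smul_mem_iff _ ht).1 ?_) hwK
      rw [show t • w = (s • v + t • w) + (-s) • v by module]
      exact Submodule.add_mem _ (Submodule.mem_sup_left hcK)
        (Submodule.mem_sup_right (Submodule.smul_mem _ _ (Submodule.mem_span_singleton_self v)))
  -- the third
  obtain ⟨X2, hU2X, hX2, hcase, hgood3⟩ := exists_bad_bound h (le_of_eq hL) hg2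
  have hUts : h.TS U := hU ▸ h.ts_pair hv hw hvwp
  obtain ⟨r, hr, hrq, hrX⟩ := h.exists_out hUts (by omega) X2 fun hle => by
    have h1 := Submodule.finrank_mono hle
    have h2 := h.finrank_perp₀ U
    rcases hcase with h3 | h3
    · omega
    have hb : perpS h.q X2 = ⊥ := (Submodule.eq_bot_iff _).2 fun c hc => hUK c
      (h.mem_perp_perp fun u hu => by rw [polar_comm]; exact mem_perpS.1 hc u (hle hu))
      fun π hπ => rsp_le (P := LinearMap.ker ((polarBilin Q).flip (up c)))
        (fun a ha => h.polar_eq_zero.1 (mem_perpS.1 hc a ha)) (h3 hπ)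
    have h4 := h.finrank_perp₀ X2
    rw [hb, finrank_bot] at h4
    omega
  rw [hU] at hr
  obtain ⟨hvr, hwr⟩ := mem_perp_pair.1 hr
  refine ⟨U ⊔ Submodule.span F₀ {r}, ?_, ?_, hgood3 r hrX⟩
  · rw [hU, ← Submodule.span_union]
    refine h.ts_span (by rintro x ((rfl | rfl) | rfl) <;> assumption) ?_
    rintro x ((rfl | rfl) | rfl) y ((rfl | rfl) | rfl) <;>
      first
        | (rw [polar_self', hv, mul_zero])
        | (rw [polar_self', hw, mul_zero])
        | (rw [polar_self', hrq, mul_zero])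
        | assumption
        | (rw [polar_comm]; assumption)
  · have h1 := Submodule.finrank_add_le_finrank_add_finrank U (Submodule.span F₀ {r})
    have h2 := finrank_span_singleton_le (K := F₀) r
    have h3 := Submodule.finrank_lt_finrank_of_lt (lt_of_le_of_ne (le_sup_left : U ≤ U ⊔ Submodule.span F₀ {r})
      fun e => hrX (hU2X (e ▸ Submodule.mem_sup_right (Submodule.mem_span_singleton_self r))))
    omega

end Cfsg.Agent.ClassicalMax.Subfield.Odd
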