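import Cfsg.Agent.ClassicalMax.Subfield.Odd.Avoid
import Cfsg.Agent.ClassicalMax.OrthMono.Bridge

/-!
Maximality of subfield subgroups of `Ω` in odd dimension at least 7.
-/

set_option autoImplicit false
set_option linter.unusedSectionVars false
set_option linter.style.haveILetI false

namespace Cfsg.Agent.ClassicalMax.Subfield.Odd

open Module QuadraticMap Cfsg.Agent.Classical Cfsg.Agent.Classical.Quad
open Cfsg.Agent.ClassicalMax.RootPlanes (NdOn perpS mem_perpS finrank_perpS)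

variable {ι : Type} [Fintype ι] [DecidableEq ι] {F : Type*} [Field F] [Fintype F] {F₀ : Subfield F}
  {Q : QuadraticForm F (ι → F)} {H : Subgroup (oG Q)}

namespace Over

theorem exists_adj (hO : Over F₀ H) : ∃ z q, hO.Adj z q := by
  have hn := hO.n7
  obtain ⟨z, -, hz0, hzs⟩ := NdFour.exists_sing_mem (Q := hO.rf.q) (⊤ : Submodule F₀ (ι → F₀))
    (by rw [finrank_top, Module.finrank_fintype_fun_eq_card]; omega)
  obtain ⟨q, hq, hqs, hqn⟩ := hO.rf.exists_out (hO.rf.ts_singleton hzs)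
    (by have := finrank_span_singleton_le (K := F₀) z; omega) (Submodule.span F₀ {z}) (fun hle => by
      have h1 := Submodule.finrank_mono hle
      have h2 := hO.rf.finrank_perp₀ (Submodule.span F₀ {z})
      have := finrank_span_singleton_le (K := F₀) z
      omega)
  exact ⟨z, q, hzs, hqs, mem_perp_singleton.1 hq, hz0, hqn⟩

theorem ne_one_of_param (hO : Over F₀ H) {p w : ι → F₀} (hp : hO.rf.q p = 0) (hpw : polar hO.rf.q p w = 0)
    (hp0 : p ≠ 0) (hwn : w ∉ Submodule.span F₀ ({p} : Set (ι → F₀))) :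
    sO (hO.sing_up hp) (hO.perp_up hpw) ≠ 1 := fun e => by
  obtain ⟨y, hy, hwy⟩ := exists_perp hO.rf.nd₀ hwn
  have h1 := congrArg (fun g : oG Q => g.1 (up y)) e
  simp only [sO_apply, oG_one_apply] at h1
  rw [polar_comm Q (up y) (up w), ← hO.rf.coe_polar, hwy, polar_comm Q (up y) (up p), ← hO.rf.coe_polar,
    hy p (Submodule.mem_span_singleton_self p)] at h1
  simp only [OneMemClass.coe_one, one_smul, ZeroMemClass.coe_zero, neg_zero, zero_smul, add_zero, mul_zero,
    add_eq_left] at h1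
  exact up_ne_zero hp0 h1

/-- closed groups consist of rational elements -/
theorem rat_all (hO : Over F₀ H) (hC : hO.Closed) {g : oG Q} (hg : g ∈ H) : RatEl F₀ g := by
  classical
  have hn := hO.n7
  obtain ⟨z, q, hzq⟩ := hO.exists_adj
  obtain ⟨hzs, hqs, hzqp, hz0, hqn⟩ := hzq
  have hzq : hO.Adj z q := ⟨hzs, hqs, hzqp, hz0, hqn⟩
  obtain ⟨hp, hpw, ht⟩ := Mem.conj (hO.sieg z q hzs hzqp) hg
  set t := sO hp hpw with htd
  set L := Submodule.span F ({g.1 (up z), g.1 (up q)} : Set (ι → F)) with hL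
  have hQq : Q (g.1 (up q)) = 0 := by rw [g.2, hO.sing_up hqs]
  have htimg : ∀ v, t.1 v - v ∈ L := fun v => by
    rw [htd, sO_apply, hQq, zero_mul, neg_zero, zero_smul, add_zero, add_assoc, add_sub_cancel_left]
    exact Submodule.mem_span_pair.2 ⟨_, _, rfl⟩
  have hind : ∀ {a b : ι → F₀}, b ∉ Submodule.span F₀ ({a} : Set (ι → F₀)) →
      g.1 (up b) ∉ Submodule.span F ({g.1 (up a)} : Set (ι → F)) := fun hb hm => by
    obtain ⟨k, hk⟩ := Submodule.mem_span_singleton.1 hm
    rw [← map_smul] at hk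
    exact hO.up_notMem hb (Submodule.mem_span_singleton.2 ⟨k, g.1.injective hk⟩)
  have hL2 : finrank F L = 2 := by
    have h1 := finrank_span_pair_le (K := F) (g.1 (up z)) (g.1 (up q))
    have hlt : Submodule.span F ({g.1 (up z)} : Set (ι → F)) < L :=
      lt_of_le_of_ne (Submodule.span_mono (by simp)) fun e => hind hqn (e ▸ Submodule.subset_span (by simp))
    have h2 := Submodule.finrank_lt_finrank_of_lt hlt
    rw [finrank_span_singleton (fun e => up_ne_zero hz0 (g.1.map_eq_zero_iff.1 e))] at h2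
    rw [← hL] at h1
    omega
  have htrat : RatEl F₀ t → RatEl F₀ g := fun hsrat => by
    refine hO.rat_of_point hC hg hz0 hzs ?_
    refine hO.step hC hg hzq (Z := rin L) ?_ ?_ ?_
    · rw [← hO.rf.finrank_rsp]
      exact (Submodule.finrank_mono (rsp_rin_le L)).trans hL2.le
    · obtain ⟨v, hv, hv1⟩ := exists_perp hO.rf.nd (hind hqn)
      have h3 := image_rat hsrat htimg v
      rw [htd, sO_apply, hQq, zero_mul, neg_zero, zero_smul, add_zero, polar_comm Q v (g.1 (up q)),
        hv1, polar_comm Q v (g.1 (up z)), hv _ (Submodule.mem_span_singleton_self _), one_smul, neg_zero, zero_smul,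
        add_zero, add_sub_cancel_left] at h3
      exact h3
    · obtain ⟨v, hv, hv1⟩ := exists_perp hO.rf.nd (hind hzq.symm.2.2.2.2)
      have h3 := image_rat hsrat htimg v
      rw [htd, sO_apply, hQq, zero_mul, neg_zero, zero_smul, add_zero, polar_comm Q v (g.1 (up z)),
        hv1, polar_comm Q v (g.1 (up q)), hv _ (Submodule.mem_span_singleton_self _), zero_smul, add_zero,
        add_sub_cancel_left, neg_smul, one_smul, neg_mem_iff] at h3
      exact h3
  have hLp : ∀ v ∈ L, Q v = 0 ∧ ∀ w ∈ L, polar Q v w = 0 := by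
    have e : L = (rsp (Submodule.span F₀ {z, q})).map g.1.toLinearMap := by
      rw [rsp_span_pair, Submodule.map_span, Set.image_pair]; rfl
    obtain ⟨hp2, hq2⟩ := hO.rf.rsp_ts (hO.rf.ts_pair hzs hqs hzqp)
    rw [e]
    rintro _ ⟨v, hv, rfl⟩
    refine ⟨by show Q (g.1 v) = 0; rw [g.2, hq2 v hv], ?_⟩
    rintro _ ⟨w, hw, rfl⟩
    show polar Q (g.1 v) (g.1 w) = 0
    rw [polar_oG, hp2 v hv w hw]
  refine htrat ?_
  by_cases hR : ∃ c : ι → F₀, up c ∈ L ∧ c ≠ 0
  · obtain ⟨c, hc, hc0⟩ := hR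
    refine hO.rat_of_point hC ht hc0 (hO.rf.q_eq_zero.2 (hLp _ hc).1) ⟨c, 1, ?_⟩
    rw [one_smul, sO_apply, (hLp _ hc).2 _ (Submodule.subset_span (Or.inl rfl)),
      (hLp _ hc).2 _ (Submodule.subset_span (Or.inr rfl))]
    simp
  push Not at hR
  obtain ⟨W, hWts, hW3, hgood⟩ := exists_space hO.rf hn hL2 hR
  set P := rsp W ⊔ L with hP
  let G : Subgroup (oG Q) :=
    { carrier := {x | x ∈ H ∧ ∀ v, x.1 v - v ∈ P}
      mul_mem' := fun {x y} hx hy => ⟨mul_mem hx.1 hy.1, fun v => by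
        rw [oG_mul_apply, ← sub_add_sub_cancel (x.1 (y.1 v)) (y.1 v) v]
        exact add_mem (hx.2 _) (hy.2 _)⟩
      one_mem' := ⟨one_mem H, fun v => by rw [oG_one_apply, sub_self]; exact P.zero_mem⟩
      inv_mem' := fun {x} hx => ⟨inv_mem hx.1, fun v => by
        have := hx.2 (x⁻¹.1 v)
        rw [oG_apply_inv] at this
        rw [← neg_sub]
        exact neg_mem this⟩ }
  have himgW : ∀ x : oG Q, x ∈ G → RatEl F₀ x → ∀ v, x.1 v - v ∈ rsp W := fun x hx hr v =>
    rsp_mono (fun c hc => hgood c hc) (image_rat hr hx.2 v)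
  obtain ⟨hWp, -⟩ := hO.rf.rsp_ts hWts
  have hfix : ∀ x : oG Q, (∀ v, x.1 v - v ∈ rsp W) → ∀ w ∈ rsp W, x.1 w = w := fun x hx w hw =>
    fix_of_image hO.rf.nd x (rsp W) hx fun u hu => hWp u hu w hw
  let S : Subgroup G :=
    { carrier := {x | RatEl F₀ (x : oG Q)}
      mul_mem' := fun {x y} hx hy a => by
        show RV F₀ ((x : oG Q).1 ((y : oG Q).1 (up a)))
        rw [← up_down (hy a)]
        exact hx _
      one_mem' := fun a => rv_up a
      inv_mem' := fun {x} hx a => by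
        have h1 := himgW x x.2 hx (up a)
        have h2 := hfix x (himgW x x.2 hx) _ h1
        rw [map_sub] at h2
        have h3 : (x : oG Q).1 (up a + (up a - (x : oG Q).1 (up a))) = up a := by
          rw [map_add, map_sub]
          linear_combination (norm := module) -(1 : F) • h2
        show RV F₀ ((x : oG Q)⁻¹.1 (up a))
        have h4 : (x : oG Q)⁻¹.1 (up a) = up a + (up a - (x : oG Q).1 (up a)) := by
          conv_lhs => rw [← h3]
          exact oG_inv_apply _ _
        rw [h4]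
        exact (rv_up a).add ((rv_up a).sub (hx a)) }
  let p := ringChar F
  have hpp : p.Prime := CharP.char_is_prime F p
  have hpow : ∀ (x : oG Q), (∀ v, x.1 v - v ∈ rsp W) → ∀ (k : ℕ) v, (x ^ k).1 v = v + (k : F) • (x.1 v - v) := by
    intro x hx k
    induction k with
    | zero => intro v; simp
    | succ k ih =>
      intro v
      rw [pow_succ', oG_mul_apply, ih, map_add, map_smul, hfix x hx _ (hx v), Nat.cast_succ]
      module
  let b := Module.finBasisOfFinrankEq F₀ W hW3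
  let e0 : ι → F₀ := (b 0 : ι → F₀)
  have hbW : ∀ i, (b i : ι → F₀) ∈ W := fun i => (b i).2
  have hli : LinearIndependent F₀ fun i => (b i : ι → F₀) := b.linearIndependent.map' W.subtype (Submodule.ker_subtype _)
  have hpair : ∀ i, polar hO.rf.q e0 (b i : ι → F₀) = 0 := fun i => hWts.polar (hbW 0) (hbW i)
  have hmk : ∀ (w : ι → F₀) (hw : polar hO.rf.q e0 w = 0), w ∈ W →
      sO (hO.sing_up (hWts _ (hbW 0))) (hO.perp_up hw) ∈ G ∧ RatEl F₀ (sO (hO.sing_up (hWts _ (hbW 0))) (hO.perp_up hw)) := by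
    intro w hw hwW
    refine ⟨⟨(hO.sieg e0 w (hWts _ (hbW 0)) hw).mem _ _, fun v => Submodule.mem_sup_left ?_⟩, fun a => ?_⟩
    · rw [sO_apply, add_assoc, add_assoc, add_sub_cancel_left]
      exact Submodule.add_mem _ (Submodule.smul_mem _ _ (up_mem_rsp (hbW 0))) (Submodule.add_mem _
        (Submodule.smul_mem _ _ (up_mem_rsp hwW)) (Submodule.smul_mem _ _ (up_mem_rsp (hbW 0))))
    · rw [sO_apply]
      exact ((((rv_up a).add ((rv_up _).smul (hO.rf.polar_mem (rv_up a) (rv_up w)))).add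
        ((rv_up w).smul (F₀.neg_mem (hO.rf.polar_mem (rv_up a) (rv_up _)))))).add
        ((rv_up _).smul (F₀.neg_mem (F₀.mul_mem (hO.rf.rat _ (rv_up w)) (hO.rf.polar_mem (rv_up a) (rv_up _)))))
  obtain ⟨haG, haS⟩ := hmk _ (hpair 1) (hbW 1)
  obtain ⟨hbG, hbS⟩ := hmk _ (hpair 2) (hbW 2)
  have hn0 : ∀ i : Fin 3, i ≠ 0 → ∀ j : ℕ, (b i : ι → F₀) + (j : F₀) • (b (if i = 1 then 2 else 1) : ι → F₀) ∉
      Submodule.span F₀ ({e0} : Set (ι → F₀)) := by
    intro i hi j hm
    obtain ⟨c, hc⟩ := Submodule.mem_span_singleton.1 hm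
    let o : Fin 3 := if i = 1 then 2 else 1
    have ho : o ≠ i ∧ o ≠ 0 :=
      (by decide : ∀ i : Fin 3, i ≠ 0 → (if i = 1 then 2 else 1) ≠ i ∧ (if i = 1 then (2 : Fin 3) else 1) ≠ 0) i hi
    have h1 := Fintype.linearIndependent_iff.1 hli (fun k => if k = i then 1 else if k = o then (j : F₀) else -c) (by
      rw [Fin.sum_univ_three]
      have hc' : c • e0 = (b i : ι → F₀) + (j : F₀) • (b o : ι → F₀) := hc
      fin_cases i
      · exact absurd rfl hi
      · simp [o] at hc' ⊢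
        linear_combination (norm := module) -(1 : F₀) • hc'
      · simp [o] at hc' ⊢
        linear_combination (norm := module) -(1 : F₀) • hc') i
    simp at h1
  have hStop : S = ⊤ := malnormal_top S hpp ?_ ?_ (a := ⟨_, haG⟩) (b := ⟨_, hbG⟩) haS hbS ?_ ?_ ?_
  · have htG : t ∈ G := ⟨ht, fun v => Submodule.mem_sup_right (htimg v)⟩
    exact (hStop ▸ Subgroup.mem_top (⟨t, htG⟩ : G) : (⟨t, htG⟩ : G) ∈ S)
  · intro x hx a ha hxa
    by_contra ha1
    set R := LinearMap.range ((a : oG Q).1.toLinearMap - LinearMap.id) with hR'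
    set R' := LinearMap.range (((x * a * x⁻¹ : G) : oG Q).1.toLinearMap - LinearMap.id) with hR''
    set U := rin (F₀ := F₀) R
    have hRW : R ≤ rsp W := by rintro _ ⟨v, rfl⟩; exact himgW _ a.2 ha v
    have hR'W : R' ≤ rsp W := by rintro _ ⟨v, rfl⟩; exact himgW _ (x * a * x⁻¹).2 hxa v
    have hUW : U ≤ W := fun c hc => hO.rf.mem_rsp_iff.1 (hRW hc)
    have hRU : R ≤ rsp U := by rintro _ ⟨v, rfl⟩; exact image_rat (P := R) ha (fun v => ⟨v, rfl⟩) v
    have hR'U : R' ≤ rsp (rin (F₀ := F₀) R') := by rintro _ ⟨v, rfl⟩; exact image_rat (P := R') hxa (fun v => ⟨v, rfl⟩) v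
    have hxR : R.map (x : oG Q).1.toLinearMap = R' := by
      apply le_antisymm
      · rintro _ ⟨_, ⟨v, rfl⟩, rfl⟩
        refine ⟨(x : oG Q).1 v, ?_⟩
        show ((x : oG Q) * (a : oG Q) * (x : oG Q)⁻¹).1 ((x : oG Q).1 v) - (x : oG Q).1 v =
          (x : oG Q).1 ((a : oG Q).1 v - v)
        rw [oG_mul_apply, oG_mul_apply, oG_inv_apply, map_sub]
      · rintro _ ⟨v, rfl⟩
        refine ⟨_, ⟨(x : oG Q)⁻¹.1 v, rfl⟩, ?_⟩
        show (x : oG Q).1 ((a : oG Q).1 ((x : oG Q)⁻¹.1 v) - (x : oG Q)⁻¹.1 v) =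
          ((x : oG Q) * (a : oG Q) * (x : oG Q)⁻¹).1 v - v
        rw [oG_mul_apply, oG_mul_apply, map_sub, oG_apply_inv]
    have hU0 : U ≠ ⊥ := fun e => ha1 (Subtype.ext (ext_oG fun v => by
      have h1 : (a : oG Q).1 v - v ∈ rsp U := hRU ⟨v, rfl⟩
      rw [e, rsp_bot, Submodule.mem_bot, sub_eq_zero] at h1
      simpa using h1))
    refine hx (hO.rat_of_space hC x.2.1 (U := U) (U' := rin (F₀ := F₀) R') (fun c hc => hWts c (hUW hc))
      (fun c hc => hWts c (hO.rf.mem_rsp_iff.1 (hR'W hc))) hU0 ((Submodule.finrank_mono hUW).trans hW3.le) ?_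
      fun c hc => hR'U (hxR ▸ Submodule.mem_map_of_mem hc))
    rw [← hO.rf.finrank_rsp, ← hO.rf.finrank_rsp U]
    refine (Submodule.finrank_mono (rsp_rin_le R')).trans ?_
    rw [← hxR, LinearEquiv.finrank_map_eq]
    exact Submodule.finrank_mono hRU
  · intro x hx
    refine Subtype.ext (ext_oG fun v => ?_)
    rw [SubgroupClass.coe_pow, hpow _ (himgW _ x.2 hx), CharP.cast_eq_zero, zero_smul, add_zero]
    rfl
  · refine Subtype.ext (ext_oG fun v => ?_)
    have ha' := himgW _ haG haS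
    have hb' := himgW _ hbG hbS
    set A := sO (hO.sing_up (hWts _ (hbW 0))) (hO.perp_up (hpair 1))
    set B := sO (hO.sing_up (hWts _ (hbW 0))) (hO.perp_up (hpair 2))
    show (A * B).1 v = (B * A).1 v
    have e1 := hfix A ha' _ (hb' v)
    have e2 := hfix B hb' _ (ha' v)
    rw [map_sub] at e1 e2
    rw [oG_mul_apply, oG_mul_apply]
    linear_combination (norm := module) e1 - e2
  · intro e
    refine hO.ne_one_of_param (hWts _ (hbW 0)) (hpair 1) (hli.ne_zero 0) ?_ (congrArg Subtype.val e)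
    simpa using hn0 1 (by decide) 0
  · intro j e
    have hp2 : polar hO.rf.q e0 ((b 2 : ι → F₀) + (j : F₀) • (b 1 : ι → F₀)) = 0 := by
      rw [polar_add_right, polar_smul_right, hpair, hpair, smul_zero, add_zero]
    refine hO.ne_one_of_param (hWts _ (hbW 0)) hp2 (hli.ne_zero 0) (by simpa using hn0 2 (by decide) j) ?_
    refine ext_oG fun v => ?_
    have h1 := congrArg (fun g : G => (g : oG Q).1 v) e
    simp only [Subgroup.coe_mul, SubgroupClass.coe_pow, OneMemClass.coe_one, LinearEquiv.mul_apply] at h1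
    rw [← SubgroupClass.coe_pow, hpow _ (himgW _ haG haS)] at h1
    simp only [LinearEquiv.coe_one, id_eq] at h1
    rw [oG_one_apply]
    refine Eq.trans ?_ h1
    rw [sO_apply, sO_apply, sO_apply]
    have hz : ∀ a c : Fin 3, polar Q (up (b a : ι → F₀)) (up (b c : ι → F₀)) = 0 := fun a c =>
      hO.perp_up (hWts.polar (hbW a) (hbW c))
    have hq : ∀ a : Fin 3, Q (up (b a : ι → F₀)) = 0 := fun a => hO.sing_up (hWts _ (hbW a))
    simp only [e0, map_add, up_smul, polar_add_right, polar_smul_right, polar_add_left, polar_smul_left, map_smul',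
      hz, hq, smul_eq_mul, QuadraticMap.map_add Q]
    simp [hz, hq]
    module

/-- an element that is not rational generates everything -/
theorem eo_of_out (hO : Over F₀ H) {g : oG Q} (hg : g ∈ H) (hout : ¬ RatEl F₀ g) : eo Q ≤ H := by
  by_contra hno
  exact hout (hO.rat_all (fun z hz0 w hw => by_contra fun hirr => hno (hO.eo_of_irr hz0 hw hirr)) hg)

end Over

/-- maximality of subfield subgroups of `Ω` in odd dimension at least 7 -/
theorem isMaximalIn_subfield_odd (Q : QuadraticForm F (ι → F)) (hQ : (polarBilin Q).Nondegenerate) (h2 : (2 : F) ≠ 0)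
    (hn : 7 ≤ Fintype.card ι) (hodd : Odd (Fintype.card ι)) (F₀ : Subfield F) {r : ℕ} (hr : r.Prime)
    (hcard : Fintype.card F = Nat.card F₀ ^ r) (P : GL ι F) {ζ : F} (hζ : ζ ≠ 0)
    (hP : ∀ u : ι → F, RV F₀ u → ζ * Q (glEquiv ι F P u) ∈ F₀) :
    Cfsg.Geo.IsMaximalIn (Cfsg.Geo.omegaGL ⇑Q) (Cfsg.Geo.subfieldSubgroup F₀ P ⊓ Cfsg.Geo.omegaGL ⇑Q) := by
  classical
  set e : (ι → F) ≃ₗ[F] (ι → F) := glEquiv ι F P with he
  set Q' : QuadraticForm F (ι → F) := ζ • Q.comp e.toLinearMap with hQ'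
  have hQ'a : ∀ x, Q' x = ζ * Q (e x) := fun x => rfl
  have hsim : ∀ x, Q (e x) = ζ⁻¹ * Q' x := fun x => by rw [hQ'a, inv_mul_cancel_left₀ hζ]
  have hrf : RForm F₀ Q' := ⟨h2, nondeg_of fun u hu => e.map_eq_zero_iff.1 (eq_zero_of_polar hQ fun z => by
      have h1 := hu (e.symm z)
      simp only [polar, hQ'a, map_add, e.apply_symm_apply] at h1
      rw [← mul_sub, ← mul_sub] at h1
      exact (mul_eq_zero.1 h1).resolve_left hζ), fun u hu => hP u hu⟩
  let φ : oG Q' →* oG Q := OrthMono.simHom e (inv_ne_zero hζ) hsim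
  have hφ : Function.Bijective φ := OrthMono.simHom_bijective e (inv_ne_zero hζ) hsim
  have hcomm : (commutator (oG Q')).map φ = commutator (oG Q) := by
    rw [commutator_def, commutator_def, Subgroup.map_commutator, Subgroup.map_top_of_surjective _ hφ.2]
  have hS : ∀ g : oG Q', (glEquiv ι F).symm (φ g).1 ∈ Cfsg.Geo.subfieldSubgroup F₀ P ↔ Ratty F₀ g.1 := fun g => by
    have e1 : (φ g).1 = e * g.1 * e⁻¹ := LinearEquiv.ext fun x => rfl
    have e2 : e⁻¹ * (φ g).1 * e = g.1 := by rw [e1]; group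
    rw [Cfsg.Geo.subfieldSubgroup, Subgroup.mem_map]
    conv_rhs => rw [← e2, ← MulEquiv.apply_symm_apply (glEquiv ι F) (φ g).1, he, ← map_inv, ← map_mul, ← map_mul,
      ← mem_ratScalar_iff]
    constructor
    · rintro ⟨y, hy, hy'⟩
      rw [← hy']
      simpa [MulAut.conj_apply, mul_assoc] using hy
    · intro h
      exact ⟨_, h, by simp [MulAut.conj_apply, mul_assoc]⟩
  have hn' : finrank F (ι → F) = Fintype.card ι := Module.finrank_fintype_fun_eq_card F
  have hex : Nat.card F ≠ 2 ∨ finrank F (ι → F) ≠ 4 := Or.inr (by omega)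
  have hsieg : ∀ a b : ι → F₀, (hp : hrf.q a = 0) → (hpw : polar hrf.q a b = 0) →
      Ratty F₀ (sO (hrf.q_eq_zero.1 hp) (hrf.polar_eq_zero.1 hpw)).1 := fun a b hp hpw =>
    ⟨1, one_ne_zero, fun i => by
      rw [one_smul, sO_apply]
      exact ((((rv_single i).add ((rv_up _).smul (hrf.polar_mem (rv_single i) (rv_up b)))).add
        ((rv_up b).smul (F₀.neg_mem (hrf.polar_mem (rv_single i) (rv_up _)))))).add
        ((rv_up _).smul (F₀.neg_mem (F₀.mul_mem (hrf.rat _ (rv_up b)) (hrf.polar_mem (rv_single i) (rv_up _)))))⟩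
  obtain ⟨l, hl⟩ : ∃ l : F, l ∉ F₀ := by
    by_contra! hc
    have h1 : Nat.card F₀ = Nat.card F := Nat.card_congr (Equiv.subtypeUnivEquiv hc)
    have h0 : 1 < Nat.card F₀ := Finite.one_lt_card
    rw [Nat.card_eq_fintype_card (α := F), hcard] at h1
    exact hr.ne_one (Nat.pow_right_injective h0 ((pow_one _).trans h1)).symm
  refine RootPlanes.isMaximalIn_omega Q hQ (by omega) _ ?_ fun H hH g hg hgS => ?_
  · obtain ⟨z, -, hz0, hzs⟩ := NdFour.exists_sing_mem (Q := hrf.q) (⊤ : Submodule F₀ (ι → F₀))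
      (by rw [finrank_top, Module.finrank_fintype_fun_eq_card]; omega)
    obtain ⟨w, hw, hws, hwn⟩ := hrf.exists_out (hrf.ts_singleton hzs)
      (by have := finrank_span_singleton_le (K := F₀) z; omega) (Submodule.span F₀ {z}) (fun hle => by
        have h1 := Submodule.finrank_mono hle
        have h2 := hrf.finrank_perp₀ (Submodule.span F₀ {z})
        have := finrank_span_singleton_le (K := F₀) z
        omega)
    obtain ⟨u, hu, hwu⟩ := exists_perp hrf.nd₀ hwn
    have hzu := hu z (Submodule.mem_span_singleton_self z)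
    have hzw := hrf.polar_eq_zero.1 (mem_perp_singleton.1 hw)
    have hp := hrf.q_eq_zero.1 hzs
    refine ⟨φ (sO hp (polar_perp_smul hzw l)),
      hcomm ▸ Subgroup.mem_map_of_mem φ (sO_mem_commutator hrf.nd hex hp _), fun hm => ?_⟩
    obtain ⟨c, hc0, hc⟩ := (hS _).1 hm
    set s := sO hp (polar_perp_smul hzw l) with hs
    have hcrat : ∀ a : ι → F₀, RV F₀ (c • s.1 (up a)) := fun a => by
      have := RV.map (L := c • s.1.toLinearMap) (fun i => hc i) (rv_up a)
      simpa using this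
    have hsz : s.1 (up z) = up z := by
      rw [hs, sO_apply, polar_smul_right, hzw, polar_self', hp]
      simp
    have hcF : c ∈ F₀ := rv_scalar (rv_up z) (by simpa [hsz] using hcrat z) (fun e => hz0 (up_eq_zero.1 e)) rfl
    have hsu : s.1 (up u) = up u + l • up z := by
      rw [hs, sO_apply, polar_smul_right, polar_comm Q' (up u) (up w), ← hrf.coe_polar, hwu, polar_comm Q' (up u) (up z),
        ← hrf.coe_polar, hzu]
      simp
    refine hl (rv_scalar (rv_up z) (u := l • up z) ?_ (fun e => hz0 (up_eq_zero.1 e)) rfl)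
    have h1 := ((hcrat u).smul (F₀.inv_mem hcF)).sub (rv_up u)
    rwa [inv_smul_smul₀ hc0, hsu, add_sub_cancel_left] at h1
  obtain ⟨g', rfl⟩ := hφ.2 g
  let H' : Subgroup (oG Q') := H.comap φ
  have hO : Over F₀ H' :=
    { rf := hrf
      n7 := hn
      odd := hodd
      prime := ⟨r, hr, hcard⟩
      sieg := fun a b hp hpw => ⟨hrf.q_eq_zero.1 hp, hrf.polar_eq_zero.1 hpw, hH _
        (hcomm ▸ Subgroup.mem_map_of_mem φ (sO_mem_commutator hrf.nd hex _ _)) ((hS _).2 (hsieg a b hp hpw))⟩ }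
  have heo : eo Q' ≤ H' := hO.eo_of_out (g := g') hg fun hr' => hgS ((hS g').2
    ⟨1, one_ne_zero, fun i => by rw [one_smul, ← up_down (rv_single (F₀ := F₀) i)]; exact hr' _⟩)
  refine (Subgroup.closure_le _).2 ?_
  rintro _ ⟨p, w, hp, hpw, rfl⟩
  have h1 := sO_mem_commutator hQ hex hp hpw
  rw [← hcomm] at h1
  obtain ⟨k, hk, hk'⟩ := Subgroup.mem_map.1 h1
  rw [← hk']
  exact heo (commutator_le_eo hrf.nd (by omega) hk)

end Cfsg.Agent.ClassicalMax.Subfield.Odd
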