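import Cfsg.Agent.ClassicalMax.Subfield.RootOrth
import Cfsg.Agent.ClassicalMax.NdFour

/-!
A quadratic form rational over a subfield: the form on coordinate vectors over the subfield, rational spans and
singular vectors in the orthogonal of a totally singular rational subspace.
-/

set_option autoImplicit false
set_option linter.unusedSectionVars false
set_option linter.style.haveILetI false

namespace Cfsg.Agent.ClassicalMax.Subfield.Odd

open Module QuadraticMap Cfsg.Agent.Classical Cfsg.Agent.Classical.Quad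
open Cfsg.Agent.ClassicalMax.RootPlanes (NdOn perpS mem_perpS finrank_perpS)

variable {ι : Type} [Fintype ι] [DecidableEq ι] {F : Type*} [Field F] [Fintype F] {F₀ : Subfield F}

/-- rational coordinate vectors inside all vectors -/
def up : (ι → F₀) →ₗ[F₀] (ι → F) where
  toFun v i := (v i : F)
  map_add' _ _ := rfl
  map_smul' _ _ := rfl

theorem up_apply (v : ι → F₀) (i : ι) : up v i = (v i : F) := rfl

theorem rv_up (v : ι → F₀) : RV F₀ (up v) := fun i => (v i).2

theorem up_smul (a : F₀) (v : ι → F₀) : up (a • v) = (a : F) • up v := rfl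

theorem up_down {x : ι → F} (hx : RV F₀ x) : up (down hx) = x := rfl

theorem up_injective : Function.Injective (up (ι := ι) (F₀ := F₀)) :=
  fun _ _ h => funext fun i => Subtype.ext (congrFun h i)

theorem up_eq_zero {v : ι → F₀} : up v = 0 ↔ v = 0 :=
  ⟨fun h => up_injective (h.trans (map_zero up).symm), fun h => by rw [h, map_zero]⟩

/-- the span of a rational subspace -/
def rsp (S : Submodule F₀ (ι → F₀)) : Submodule F (ι → F) := Submodule.span F ((fun v => up v) '' (S : Set (ι → F₀)))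

theorem up_mem_rsp {S : Submodule F₀ (ι → F₀)} {v : ι → F₀} (h : v ∈ S) : up v ∈ rsp S :=
  Submodule.subset_span ⟨v, h, rfl⟩

theorem rsp_le {S : Submodule F₀ (ι → F₀)} {P : Submodule F (ι → F)} (h : ∀ v ∈ S, up v ∈ P) : rsp S ≤ P :=
  Submodule.span_le.2 (by rintro _ ⟨v, hv, rfl⟩; exact h v hv)

theorem rsp_mono {S T : Submodule F₀ (ι → F₀)} (h : S ≤ T) : rsp S ≤ rsp T := rsp_le fun _ hv => up_mem_rsp (h hv)

theorem rsp_sup (S T : Submodule F₀ (ι → F₀)) : rsp (S ⊔ T) = rsp S ⊔ rsp T := by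
  refine le_antisymm (rsp_le fun v hv => ?_) (sup_le (rsp_mono le_sup_left) (rsp_mono le_sup_right))
  obtain ⟨s, hs, t, ht, rfl⟩ := Submodule.mem_sup.1 hv
  rw [map_add]
  exact Submodule.add_mem _ (Submodule.mem_sup_left (up_mem_rsp hs)) (Submodule.mem_sup_right (up_mem_rsp ht))

theorem rsp_span_le {s : Set (ι → F₀)} {P : Submodule F (ι → F)} (h : ∀ v ∈ s, up v ∈ P) :
    rsp (Submodule.span F₀ s) ≤ P := rsp_le fun v hv => by
  induction hv using Submodule.span_induction with
  | mem x hx => exact h x hx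
  | zero => rw [map_zero]; exact P.zero_mem
  | add x y _ _ hx hy => rw [map_add]; exact P.add_mem hx hy
  | smul a x _ hx => rw [up_smul]; exact P.smul_mem _ hx

theorem rsp_span_pair (a b : ι → F₀) : rsp (Submodule.span F₀ {a, b}) = Submodule.span F {up a, up b} :=
  le_antisymm (rsp_span_le (by rintro v (rfl | rfl) <;> exact Submodule.subset_span (by simp)))
    (Submodule.span_le.2 (by
      rintro v (rfl | rfl)
      · exact up_mem_rsp (Submodule.subset_span (Or.inl rfl))
      · exact up_mem_rsp (Submodule.subset_span (Or.inr rfl))))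

theorem rsp_span_singleton (a : ι → F₀) : rsp (Submodule.span F₀ {a}) = Submodule.span F {up a} :=
  le_antisymm (rsp_span_le (by rintro v rfl; exact Submodule.mem_span_singleton_self _))
    ((Submodule.span_singleton_le_iff_mem _ _).2 (up_mem_rsp (Submodule.mem_span_singleton_self _)))

theorem rsp_bot : rsp (⊥ : Submodule F₀ (ι → F₀)) = ⊥ :=
  le_bot_iff.1 (rsp_le fun v hv => by rw [(Submodule.mem_bot _).1 hv, map_zero]; exact Submodule.zero_mem _)

theorem mem_rsp_top (x : ι → F) : x ∈ rsp (⊤ : Submodule F₀ (ι → F₀)) := by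
  rw [eq_sum_single x]
  exact Submodule.sum_mem _ fun i _ => Submodule.smul_mem _ _ (up_down (rv_single (F₀ := F₀) i) ▸ up_mem_rsp trivial)

theorem finrank_rsp_le (S : Submodule F₀ (ι → F₀)) : finrank F (rsp S) ≤ finrank F₀ S := by
  let b := Module.finBasis F₀ S
  have hle : rsp S ≤ Submodule.span F (Set.range fun i => up (b i : ι → F₀)) := by
    refine rsp_le fun v hv => ?_
    have e : v = ∑ i, (b.repr ⟨v, hv⟩ i) • (b i : ι → F₀) := by
      have e1 := congrArg Subtype.val (b.sum_repr ⟨v, hv⟩)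
      simp only [AddSubmonoidClass.coe_finsetSum, Submodule.coe_smul] at e1
      exact e1.symm
    rw [e, map_sum]
    exact Submodule.sum_mem _ fun i _ => by
      rw [up_smul]
      exact Submodule.smul_mem _ _ (Submodule.subset_span ⟨i, rfl⟩)
  have h2 := finrank_range_le_card (R := F) fun i => up (b i : ι → F₀)
  rw [Set.finrank, Fintype.card_fin] at h2
  exact (Submodule.finrank_mono hle).trans h2

variable (Q : QuadraticForm F (ι → F)) (F₀)

/-- the form is non-degenerate, in odd characteristic, and rational on rational vectors -/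
structure RForm : Prop where
  two : (2 : F) ≠ 0
  nd : (polarBilin Q).Nondegenerate
  rat : ∀ u : ι → F, RV F₀ u → Q u ∈ F₀

variable {Q} {F₀}

namespace RForm

theorem two₀ (h : RForm F₀ Q) : (2 : F₀) ≠ 0 := fun e => h.two (by
  rw [← map_ofNat F₀.subtype 2, e, map_zero])

/-- the form on rational coordinate vectors -/
def q (h : RForm F₀ Q) : QuadraticForm F₀ (ι → F₀) :=
  QuadraticMap.ofPolar (fun v => (⟨Q (up v), h.rat _ (rv_up v)⟩ : F₀))
    (fun a v => Subtype.ext (show Q (up (a • v)) = (a : F) * a * Q (up v) by rw [← map_smul']; rfl))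
    (fun u u' v => Subtype.ext (by
      simp only [polar, map_add, AddSubgroupClass.coe_sub, AddMemClass.coe_add]
      have := polar_add_left (Q := Q) (up u) (up u') (up v)
      simpa only [polar] using this))
    (fun a u v => Subtype.ext (by
      have := polar_smul_left (Q := Q) (a : F) (up u) (up v)
      simpa only [polar, map_add, up_smul, AddSubgroupClass.coe_sub, smul_eq_mul, MulMemClass.coe_mul] using this))

theorem coe_q (h : RForm F₀ Q) (v : ι → F₀) : ((h.q v : F₀) : F) = Q (up v) := rfl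

theorem coe_polar (h : RForm F₀ Q) (u v : ι → F₀) : ((polar h.q u v : F₀) : F) = polar Q (up u) (up v) := by
  simp only [polar, AddSubgroupClass.coe_sub, coe_q, map_add]

theorem polar_eq_zero (h : RForm F₀ Q) {u v : ι → F₀} : polar h.q u v = 0 ↔ polar Q (up u) (up v) = 0 := by
  rw [← h.coe_polar, ← ZeroMemClass.coe_zero F₀, Subtype.coe_inj]

theorem q_eq_zero (h : RForm F₀ Q) {v : ι → F₀} : h.q v = 0 ↔ Q (up v) = 0 := by
  rw [← h.coe_q, ← ZeroMemClass.coe_zero F₀, Subtype.coe_inj]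

theorem polar_mem (h : RForm F₀ Q) {u v : ι → F} (hu : RV F₀ u) (hv : RV F₀ v) : polar Q u v ∈ F₀ := by
  rw [← up_down hu, ← up_down hv, ← h.coe_polar]
  exact SetLike.coe_mem _

theorem nd₀ (h : RForm F₀ Q) : (polarBilin h.q).Nondegenerate := by
  refine nondeg_of fun u hu => ?_
  refine up_eq_zero.1 (eq_zero_of_polar h.nd fun z => ?_)
  have hle : rsp (⊤ : Submodule F₀ (ι → F₀)) ≤ LinearMap.ker (polarBilin Q (up u)) :=
    rsp_le fun v _ => h.polar_eq_zero.1 (hu v)
  exact hle (mem_rsp_top z)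

theorem mem_rsp_iff (h : RForm F₀ Q) {S : Submodule F₀ (ι → F₀)} {v : ι → F₀} : up v ∈ rsp S ↔ v ∈ S := by
  refine ⟨fun hv => by_contra fun hn => ?_, up_mem_rsp⟩
  obtain ⟨u, hu, hvu⟩ := exists_perp h.nd₀ hn
  have hle : rsp S ≤ LinearMap.ker (polarBilin Q (up u)) := rsp_le fun s hs => by
    show polar Q (up u) (up s) = 0
    rw [polar_comm]
    exact h.polar_eq_zero.1 (hu s hs)
  have h0 : polar Q (up u) (up v) = 0 := hle hv
  rw [polar_comm, ← h.coe_polar, hvu] at h0
  exact one_ne_zero h0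

/-- a vector orthogonal to the rational orthogonal of `S` lies in the span of `S` -/
theorem mem_rsp_of_perp (h : RForm F₀ Q) {S : Submodule F₀ (ι → F₀)} {π : ι → F}
    (hπ : ∀ u, (∀ s ∈ S, polar h.q s u = 0) → polar Q π (up u) = 0) : π ∈ rsp S := by
  let ω := Module.finBasis F₀ F
  let c : Fin (finrank F₀ F) → ι → F₀ := fun k i => ω.repr (π i) k
  have e : π = ∑ k, ω k • up (c k) := funext fun i => by
    rw [Finset.sum_apply]
    conv_lhs => rw [← ω.sum_repr (π i)]
    exact Finset.sum_congr rfl fun k _ => mul_comm _ _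
  rw [e]
  refine Submodule.sum_mem _ fun k _ => Submodule.smul_mem _ _ (up_mem_rsp (by_contra fun hn => ?_))
  obtain ⟨u, hu, hcu⟩ := exists_perp h.nd₀ hn
  have h0 : ∑ j, (polar h.q (c j) u) • ω j = 0 := by
    have h1 : polarBilin Q π (up u) = 0 := hπ u hu
    rw [e, map_sum, LinearMap.sum_apply] at h1
    rw [← h1]
    refine Finset.sum_congr rfl fun j _ => ?_
    rw [map_smul, LinearMap.smul_apply, polarBilin_apply_apply, ← h.coe_polar, smul_eq_mul, mul_comm]
    rfl
  exact one_ne_zero (hcu.symm.trans (Fintype.linearIndependent_iff.1 ω.linearIndependent _ h0 k))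

theorem rsp_inter (h : RForm F₀ Q) {S T : Submodule F₀ (ι → F₀)} {π : ι → F} (h₁ : π ∈ rsp S) (h₂ : π ∈ rsp T) :
    π ∈ rsp (S ⊓ T) := by
  have h3 := Root.rat_inter (F₀ := F₀) (s := (fun v => up v) '' (S : Set (ι → F₀))) (t := (fun v => up v) '' (T : Set (ι → F₀)))
    (by rintro _ ⟨v, -, rfl⟩; exact rv_up v) (by rintro _ ⟨v, -, rfl⟩; exact rv_up v) h₁ h₂
  refine (Submodule.span_le.2 ?_) h3
  rintro z ⟨hz, hzs, hzt⟩
  rw [← up_down hz] at hzs hzt ⊢
  exact up_mem_rsp ⟨h.mem_rsp_iff.1 hzs, h.mem_rsp_iff.1 hzt⟩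

theorem mem_perp_perp (h : RForm F₀ Q) {U : Submodule F₀ (ι → F₀)} {x : ι → F₀}
    (hx : ∀ u ∈ perpS h.q U, polar h.q x u = 0) : x ∈ U := by_contra fun hn => by
  obtain ⟨u, hu, hxu⟩ := exists_perp h.nd₀ hn
  exact one_ne_zero (hxu.symm.trans (hx u (mem_perpS.2 hu)))

theorem finrank_perp₀ (h : RForm F₀ Q) (U : Submodule F₀ (ι → F₀)) :
    finrank F₀ (perpS h.q U) + finrank F₀ U = Fintype.card ι := by
  have := finrank_perpS h.nd₀ U
  rwa [Module.finrank_fintype_fun_eq_card] at this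

/-- totally singular -/
def TS (h : RForm F₀ Q) (U : Submodule F₀ (ι → F₀)) : Prop := ∀ u ∈ U, h.q u = 0

theorem TS.polar {h : RForm F₀ Q} {U : Submodule F₀ (ι → F₀)} (hU : h.TS U) {u v : ι → F₀} (hu : u ∈ U) (hv : v ∈ U) :
    QuadraticMap.polar h.q u v = 0 := by rw [QuadraticMap.polar, hU _ (U.add_mem hu hv), hU u hu, hU v hv]; simp

theorem ts_span (h : RForm F₀ Q) {s : Set (ι → F₀)} (hs : ∀ a ∈ s, h.q a = 0) (hp : ∀ a ∈ s, ∀ b ∈ s, QuadraticMap.polar h.q a b = 0) :
    h.TS (Submodule.span F₀ s) := by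
  have hperp : Submodule.span F₀ s ≤ perpS h.q (Submodule.span F₀ s) := by
    rw [Submodule.span_le]
    intro a ha
    rw [SetLike.mem_coe, mem_perpS]
    intro w hw
    induction hw using Submodule.span_induction with
    | mem x hx => exact hp x hx a ha
    | zero => exact polar_zero_left _ _
    | add x y _ _ hx hy => rw [polar_add_left, hx, hy, add_zero]
    | smul t x _ hx => rw [polar_smul_left, hx, smul_zero]
  intro u hu
  induction hu using Submodule.span_induction with
  | mem x hx => exact hs x hx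
  | zero => exact map_zero _
  | add x y hxm hym hx hy => rw [map_add', hx, hy, mem_perpS.1 (hperp hym) x hxm]; simp
  | smul t x _ hx => rw [map_smul', hx, mul_zero]

/-- a non-degenerate complement of `U` in its orthogonal -/
theorem exists_core (h : RForm F₀ Q) {U : Submodule F₀ (ι → F₀)} (hU : h.TS U) :
    ∃ R : Submodule F₀ (ι → F₀), R ≤ perpS h.q U ∧ NdOn h.q R ∧ Disjoint R U ∧
      Fintype.card ι ≤ finrank F₀ R + 2 * finrank F₀ U ∧ perpS h.q U ≤ U ⊔ R := by
  obtain ⟨C, hC⟩ := U.exists_isCompl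
  have hUle : U ≤ perpS h.q U := fun u hu => mem_perpS.2 fun w hw => hU.polar hw hu
  refine ⟨C ⊓ perpS h.q U, inf_le_right, fun x hx hperp => ?_, hC.disjoint.symm.mono_left inf_le_left, ?_, ?_⟩
  · have hxU : x ∈ U := h.mem_perp_perp fun y hy => by
      obtain ⟨u, hu, c, hc, e⟩ := Submodule.mem_sup.1 (hC.sup_eq_top ▸ Submodule.mem_top (x := y))
      have hcp : c ∈ perpS h.q U := by
        rw [show c = y - u by rw [← e]; abel]
        exact Submodule.sub_mem _ hy (hUle hu)
      rw [← e, polar_add_right, hperp c ⟨hc, hcp⟩, polar_comm, mem_perpS.1 hx.2 u hu, add_zero]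
    exact Submodule.disjoint_def.1 hC.disjoint x hxU hx.1
  · have h1 := Submodule.finrank_sup_add_finrank_inf_eq C (perpS h.q U)
    have h2 := Submodule.finrank_le (C ⊔ perpS h.q U)
    have h3 := Submodule.finrank_add_eq_of_isCompl hC
    have h4 := h.finrank_perp₀ U
    rw [Module.finrank_fintype_fun_eq_card] at h2 h3
    omega
  · intro y hy
    obtain ⟨u, hu, c, hc, e⟩ := Submodule.mem_sup.1 (hC.sup_eq_top ▸ Submodule.mem_top (x := y))
    rw [← e]
    refine Submodule.add_mem _ (Submodule.mem_sup_left hu) (Submodule.mem_sup_right ⟨hc, ?_⟩)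
    rw [show c = y - u by rw [← e]; abel]
    exact Submodule.sub_mem _ hy (hUle hu)

/-- singular vectors span the orthogonal of a totally singular subspace -/
theorem perp_le (h : RForm F₀ Q) {U : Submodule F₀ (ι → F₀)} (hU : h.TS U) (hd : 2 * finrank F₀ U + 3 ≤ Fintype.card ι)
    (X : Submodule F₀ (ι → F₀)) (hX : ∀ y ∈ perpS h.q U, h.q y = 0 → y ∈ X) : perpS h.q U ≤ X := by
  obtain ⟨R, hRU, hR, -, hdim, hsup⟩ := h.exists_core hU
  refine hsup.trans (sup_le (fun u hu => hX u (mem_perpS.2 fun w hw => hU.polar hw hu) (hU u hu)) ?_)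
  exact NdFour.le_of_sing h.two₀ hR (by omega) X fun y hy hq => hX y (hRU hy) hq

theorem exists_out (h : RForm F₀ Q) {U : Submodule F₀ (ι → F₀)} (hU : h.TS U) (hd : 2 * finrank F₀ U + 3 ≤ Fintype.card ι)
    (X : Submodule F₀ (ι → F₀)) (hX : ¬ perpS h.q U ≤ X) : ∃ y ∈ perpS h.q U, h.q y = 0 ∧ y ∉ X := by
  by_contra! hall
  exact hX (h.perp_le hU hd X hall)

/-- singular vectors of the orthogonal avoid two proper subspaces -/
theorem exists_out_two (h : RForm F₀ Q) {U : Submodule F₀ (ι → F₀)} (hU : h.TS U)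
    (hd : 2 * finrank F₀ U + 5 ≤ Fintype.card ι) (X Y : Submodule F₀ (ι → F₀)) (hUX : U ≤ X) (hUY : U ≤ Y)
    (hX : ¬ perpS h.q U ≤ X) (hY : ¬ perpS h.q U ≤ Y) : ∃ y ∈ perpS h.q U, h.q y = 0 ∧ y ∉ X ∧ y ∉ Y := by
  obtain ⟨R, hRU, hR, -, hdim, hsup⟩ := h.exists_core hU
  have hd5 : 5 ≤ finrank F₀ R := by omega
  have hX' : ¬ R ≤ X := fun hle => hX (hsup.trans (sup_le hUX hle))
  have hY' : ¬ R ≤ Y := fun hle => hY (hsup.trans (sup_le hUY hle))
  by_contra! hall
  have cov : ∀ {y}, y ∈ R → h.q y = 0 → y ∉ X → y ∈ Y := fun hy hq hyX => hall _ (hRU hy) hq hyX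
  obtain ⟨b, hb, hbq, hbY⟩ : ∃ b ∈ R, h.q b = 0 ∧ b ∉ Y := by
    by_contra! h'
    exact hY' (NdFour.le_of_sing h.two₀ hR (by omega) Y h')
  have hbX : b ∈ X := by_contra fun h' => hbY (cov hb hbq h')
  have hb0 : b ≠ 0 := fun e => hbY (e ▸ Y.zero_mem)
  set R' := h.q.comp R.subtype with hR'
  have hbperp : ∀ w ∈ R, polar h.q b w = 0 → w ∈ X := by
    intro w hw hbw
    have := OTensor.perp_le_of_sing (Q := R') hR.comp hd5 (p := ⟨b, hb⟩) (fun e => hb0 (congrArg Subtype.val e)) hbq
      (X.comap R.subtype) (fun y hy hby => by_contra fun hyX => hbY (by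
        have hsum : (b + y : ι → F₀) ∈ Y := cov (R.add_mem hb y.2) (by
          have h1 : polar h.q b (y : ι → F₀) = 0 := hby
          rw [map_add', hbq, show h.q (y : ι → F₀) = 0 from hy, h1]; simp)
          (fun hs => hyX (show (y : ι → F₀) ∈ X by simpa using X.sub_mem hs hbX))
        simpa using Y.sub_mem hsum (cov y.2 hy hyX))) (w := ⟨w, hw⟩) hbw
    exact this
  refine hY' fun w hw => ?_
  have htop := OTensor.top_of_partners (Q := R') h.two₀ hR.comp (by omega) (p := ⟨b, hb⟩)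
    (fun e => hb0 (congrArg Subtype.val e)) hbq (Y.comap R.subtype) fun g hg hbg => by
      show (g : ι → F₀) ∈ Y
      refine cov g.2 hg fun hgX => hX' fun v hv => ?_
      have hbg' : polar h.q b (g : ι → F₀) = 1 := hbg
      have h1 := hbperp (v - polar h.q b v • (g : ι → F₀)) (R.sub_mem hv (R.smul_mem _ g.2))
        (by rw [polar_sub_right, polar_smul_right, hbg', smul_eq_mul, mul_one, sub_self])
      simpa using X.add_mem h1 (X.smul_mem (polar h.q b v) hgX)
  exact show (⟨w, hw⟩ : R) ∈ Y.comap R.subtype from htop ▸ Submodule.mem_top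

/-- a singular partner inside the orthogonal of `U` -/
theorem exists_partner (h : RForm F₀ Q) {U : Submodule F₀ (ι → F₀)} (hU : h.TS U) {b : ι → F₀} (hb : b ∈ perpS h.q U)
    (hbq : h.q b = 0) (hbU : b ∉ U) : ∃ c ∈ perpS h.q U, h.q c = 0 ∧ QuadraticMap.polar h.q b c = 1 := by
  obtain ⟨R, hRU, hR, -, -, hsup⟩ := h.exists_core hU
  obtain ⟨u, hu, b₀, hb₀, e⟩ := Submodule.mem_sup.1 (hsup hb)
  have hq₀ : h.q b₀ = 0 := by
    rw [← e, map_add', hU u hu, mem_perpS.1 (hRU hb₀) u hu] at hbq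
    simpa using hbq
  have hb₀0 : b₀ ≠ 0 := fun e0 => hbU (by rw [← e, e0, add_zero]; exact hu)
  obtain ⟨c, hc, hbc⟩ := exists_hyp_pair (Q := h.q.comp R.subtype) hR.comp (p := ⟨b₀, hb₀⟩)
    (fun e0 => hb₀0 (congrArg Subtype.val e0)) hq₀
  refine ⟨c, hRU c.2, hc, ?_⟩
  rw [← e, polar_add_left, mem_perpS.1 (hRU c.2) u hu, zero_add]
  exact hbc

/-- a singular vector in the orthogonal of `U` which is non-orthogonal to two given ones -/
theorem exists_common₀ (h : RForm F₀ Q) {U : Submodule F₀ (ι → F₀)} (hU : h.TS U)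
    (hd : 2 * finrank F₀ U + 3 ≤ Fintype.card ι) {a b : ι → F₀} (ha : a ∈ perpS h.q U) (haq : h.q a = 0) (haU : a ∉ U)
    (hb : b ∈ perpS h.q U) (hbq : h.q b = 0) (hbU : b ∉ U) :
    ∃ c ∈ perpS h.q U, h.q c = 0 ∧ QuadraticMap.polar h.q c a ≠ 0 ∧ QuadraticMap.polar h.q c b ≠ 0 := by
  obtain ⟨R, hRU, hR, -, hdim, hsup⟩ := h.exists_core hU
  have key : ∀ {a}, a ∈ perpS h.q U → h.q a = 0 → a ∉ U → ∃ a₀ : R, a₀ ≠ 0 ∧ h.q.comp R.subtype a₀ = 0 ∧
      ∀ c : R, QuadraticMap.polar h.q (c : ι → F₀) a = QuadraticMap.polar (h.q.comp R.subtype) c a₀ := by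
    intro a ha haq haU
    obtain ⟨u, hu, a₀, ha₀, e⟩ := Submodule.mem_sup.1 (hsup ha)
    refine ⟨⟨a₀, ha₀⟩, fun e0 => haU ?_, ?_, fun c => ?_⟩
    · rw [← e, show a₀ = 0 from congrArg Subtype.val e0, add_zero]; exact hu
    · show h.q a₀ = 0
      rw [← e, map_add', hU u hu, mem_perpS.1 (hRU ha₀) u hu] at haq
      simpa using haq
    · rw [← e, polar_add_right, polar_comm h.q _ u, mem_perpS.1 (hRU c.2) u hu, zero_add]
      rfl
  obtain ⟨a₀, ha₀0, ha₀q, hae⟩ := key ha haq haU
  obtain ⟨b₀, hb₀0, hb₀q, hbe⟩ := key hb hbq hbU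
  obtain ⟨c, hc, hca, hcb⟩ := exists_common hR.comp (by omega) ha₀0 ha₀q hb₀0 hb₀q
  exact ⟨c, hRU c.2, hc, by rwa [hae], by rwa [hbe]⟩

/-- the orthogonal of a totally singular subspace represents every value -/
theorem exists_value₀ (h : RForm F₀ Q) {U : Submodule F₀ (ι → F₀)} (hU : h.TS U)
    (hd : 2 * finrank F₀ U + 2 ≤ Fintype.card ι) {c : F₀} (hc : c ≠ 0) : ∃ v ∈ perpS h.q U, h.q v = c := by
  obtain ⟨R, hRU, hR, -, hdim, -⟩ := h.exists_core hU
  obtain ⟨v, hv⟩ := exists_value (Q := h.q.comp R.subtype) hR.comp h.two₀ (by omega) hc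
  exact ⟨v, hRU v.2, hv⟩

theorem ts_bot (h : RForm F₀ Q) : h.TS ⊥ := fun u hu => by rw [(Submodule.mem_bot _).1 hu, map_zero]

theorem ts_singleton (h : RForm F₀ Q) {a : ι → F₀} (ha : h.q a = 0) : h.TS (Submodule.span F₀ {a}) :=
  h.ts_span (fun x hx => by rw [Set.mem_singleton_iff.1 hx, ha]) fun x hx y hy => by
    rw [Set.mem_singleton_iff.1 hx, Set.mem_singleton_iff.1 hy, polar_self', ha, mul_zero]

theorem ts_pair (h : RForm F₀ Q) {a b : ι → F₀} (ha : h.q a = 0) (hb : h.q b = 0)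
    (hab : QuadraticMap.polar h.q a b = 0) : h.TS (Submodule.span F₀ {a, b}) :=
  h.ts_span (by rintro x (rfl | rfl) <;> assumption) (by
    rintro x (rfl | rfl) y (rfl | rfl)
    · rw [polar_self', ha, mul_zero]
    · exact hab
    · rw [polar_comm]; exact hab
    · rw [polar_self', hb, mul_zero])

end RForm

theorem finrank_span_singleton_le {K : Type*} [Field K] {V : Type*} [AddCommGroup V] [Module K V] (a : V) :
    finrank K (Submodule.span K ({a} : Set V)) ≤ 1 := (finrank_span_le_card _).trans (by simp)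

theorem finrank_span_pair_le {K : Type*} [Field K] {V : Type*} [AddCommGroup V] [Module K V] (a b : V) :
    finrank K (Submodule.span K ({a, b} : Set V)) ≤ 2 := by
  classical
  refine (finrank_span_le_card _).trans ?_
  rw [Set.toFinset_insert, Set.toFinset_singleton]
  exact Finset.card_le_two

theorem mem_perp_singleton {K V : Type*} [Field K] [Finite K] [AddCommGroup V] [Module K V] [FiniteDimensional K V]
    {q : QuadraticForm K V} {a x : V} : x ∈ perpS q (Submodule.span K {a}) ↔ polar q a x = 0 := by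
  rw [mem_perpS]
  refine ⟨fun h => h a (Submodule.mem_span_singleton_self a), fun h w hw => ?_⟩
  obtain ⟨t, rfl⟩ := Submodule.mem_span_singleton.1 hw
  rw [polar_smul_left, h, smul_zero]

theorem mem_perp_pair {K V : Type*} [Field K] [Finite K] [AddCommGroup V] [Module K V] [FiniteDimensional K V]
    {q : QuadraticForm K V} {a b x : V} :
    x ∈ perpS q (Submodule.span K {a, b}) ↔ polar q a x = 0 ∧ polar q b x = 0 := by
  rw [mem_perpS]
  refine ⟨fun h => ⟨h a (Submodule.subset_span (Or.inl rfl)), h b (Submodule.subset_span (Or.inr rfl))⟩,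
    fun h w hw => ?_⟩
  obtain ⟨s, t, rfl⟩ := Submodule.mem_span_pair.1 hw
  rw [polar_add_left, polar_smul_left, polar_smul_left, h.1, h.2, smul_zero, smul_zero, add_zero]

end Cfsg.Agent.ClassicalMax.Subfield.Odd
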