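import Cfsg.Agent.ClassicalMax.Subfield.Odd.Spread

/-!
If all parameters with rational centre are rational, an element of the group mapping some rational totally singular
subspace to a rational one is rational.
-/

set_option autoImplicit false
set_option linter.unusedSectionVars false
set_option linter.style.haveILetI false

namespace Cfsg.Agent.ClassicalMax.Subfield.Odd

open Module QuadraticMap Cfsg.Agent.Classical Cfsg.Agent.Classical.Quad
open Cfsg.Agent.ClassicalMax.RootPlanes (NdOn perpS mem_perpS finrank_perpS)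

variable {ι : Type} [Fintype ι] [DecidableEq ι] {F : Type*} [Field F] [Fintype F] {F₀ : Subfield F}
  {Q : QuadraticForm F (ι → F)} {H : Subgroup (oG Q)}

/-- the rational vectors of a subspace -/
def rin (P : Submodule F (ι → F)) : Submodule F₀ (ι → F₀) where
  carrier := {a | up a ∈ P}
  zero_mem' := by show up 0 ∈ P; rw [map_zero]; exact P.zero_mem
  add_mem' := fun {a b} ha hb => by show up (a + b) ∈ P; rw [map_add]; exact P.add_mem ha hb
  smul_mem' := fun c a ha => by show up (c • a) ∈ P; rw [up_smul]; exact P.smul_mem _ ha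

theorem rsp_rin_le (P : Submodule F (ι → F)) : rsp (rin (F₀ := F₀) P) ≤ P := rsp_le fun _ hv => hv

theorem RForm.finrank_rsp (h : RForm F₀ Q) (S : Submodule F₀ (ι → F₀)) : finrank F (rsp S) = finrank F₀ S := by
  refine le_antisymm (finrank_rsp_le S) ?_
  let b := Module.finBasis F₀ S
  have hli : LinearIndependent F fun i => up (b i : ι → F₀) := by
    refine linearIndependent_iff_notMem_span.2 fun i hm => ?_
    have hsub : Submodule.span F ((fun j => up (b j : ι → F₀)) '' (Set.univ \ {i})) ≤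
        rsp (Submodule.span F₀ ((fun j => (b j : ι → F₀)) '' (Set.univ \ {i}))) :=
      Submodule.span_le.2 (by rintro _ ⟨j, hj, rfl⟩; exact up_mem_rsp (Submodule.subset_span ⟨j, hj, rfl⟩))
    have hli₀ : LinearIndependent F₀ fun j => (b j : ι → F₀) := b.linearIndependent.map' S.subtype (Submodule.ker_subtype _)
    exact linearIndependent_iff_notMem_span.1 hli₀ i (h.mem_rsp_iff.1 (hsub hm))
  have h1 := finrank_span_eq_card hli
  rw [Fintype.card_fin] at h1
  rw [← h1]
  exact Submodule.finrank_mono (Submodule.span_le.2 (by rintro _ ⟨i, rfl⟩; exact up_mem_rsp (b i).2))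

theorem RForm.rsp_ts (h : RForm F₀ Q) {S : Submodule F₀ (ι → F₀)} (hS : h.TS S) :
    (∀ v ∈ rsp S, ∀ w ∈ rsp S, polar Q v w = 0) ∧ ∀ v ∈ rsp S, Q v = 0 := by
  have hp : ∀ v ∈ rsp S, ∀ w ∈ rsp S, polar Q v w = 0 := fun v hv w hw => by
    have h1 : ∀ a ∈ S, ∀ w ∈ rsp S, polar Q (up a) w = 0 := fun a ha w hw =>
      rsp_le (P := LinearMap.ker (polarBilin Q (up a))) (fun b hb => h.polar_eq_zero.1 (hS.polar ha hb)) hw
    exact rsp_le (P := LinearMap.ker ((polarBilin Q).flip w)) (fun a ha => h1 a ha w hw) hv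
  refine ⟨hp, fun v hv => ?_⟩
  induction hv using Submodule.span_induction with
  | mem x hx => obtain ⟨a, ha, rfl⟩ := hx; exact h.q_eq_zero.1 (hS a ha)
  | zero => exact map_zero _
  | add x y hxm hym hx hy => rw [map_add', hx, hy, hp x hxm y hym]; simp
  | smul t x _ hx => rw [map_smul', hx, mul_zero]

/-- an isometry with image in `W` fixes the orthogonal of `W` -/
theorem fix_of_image (hnd : (polarBilin Q).Nondegenerate) (x : oG Q) (W : Submodule F (ι → F))
    (hx : ∀ v, x.1 v - v ∈ W) {y : ι → F} (hy : ∀ w ∈ W, polar Q w y = 0) : x.1 y = y := by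
  refine sub_eq_zero.1 (eq_zero_of_polar hnd fun v => ?_)
  obtain ⟨v, rfl⟩ := x.1.surjective v
  have h1 := hy _ (hx v)
  rw [polar_sub_left, sub_eq_zero] at h1
  rw [polar_sub_left, polar_oG, polar_comm Q y (x.1 v), h1, polar_comm Q y v, sub_self]

namespace Over

/-- all parameters with rational centre are rational -/
def Closed (_hO : Over F₀ H) : Prop :=
  ∀ z : ι → F₀, z ≠ 0 → ∀ w, Mem H (up z) w → ∃ (b : ι → F₀) (t : F), w = up b + t • up z

/-- rational isometries -/
def RatEl (F₀ : Subfield F) (x : oG Q) : Prop := ∀ a : ι → F₀, RV F₀ (x.1 (up a))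

theorem up_ne_zero {a : ι → F₀} (ha : a ≠ 0) : up a ≠ 0 := fun e => ha (up_eq_zero.1 e)

theorem up_notMem (hO : Over F₀ H) {a d : ι → F₀} (hd : d ∉ Submodule.span F₀ ({a} : Set (ι → F₀))) :
    up d ∉ Submodule.span F ({up a} : Set (ι → F)) := fun hm => by
  rw [← rsp_span_singleton] at hm
  exact hd (hO.rf.mem_rsp_iff.1 hm)

theorem pres (hO : Over F₀ H) (hC : hO.Closed) {x : oG Q} (hx : x ∈ H) {z z' u : ι → F₀} (hz0 : z ≠ 0)
    (hz : hO.rf.q z = 0) {μ : F} (hxz : x.1 (up z) = μ • up z') (hzu : polar hO.rf.q z u = 0) :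
    ∃ (b : ι → F₀) (t : F), μ • x.1 (up u) = up b + t • up z' := by
  have hμ : μ ≠ 0 := fun e => up_ne_zero hz0 (x.1.map_eq_zero_iff.1 (by rw [hxz, e, zero_smul]))
  have hz' : z' ≠ 0 := fun e => up_ne_zero hz0 (x.1.map_eq_zero_iff.1 (by rw [hxz, e, map_zero, smul_zero]))
  have hQz : Q (up z') = 0 := by
    have h1 : Q (x.1 (up z)) = 0 := by rw [x.2, hO.sing_up hz]
    rw [hxz, map_smul'] at h1
    exact (mul_eq_zero.1 h1).resolve_left (mul_ne_zero hμ hμ)
  have hp : polar Q (up z') (x.1 (up u)) = 0 := by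
    have h1 : polar Q (x.1 (up z)) (x.1 (up u)) = 0 := by rw [polar_oG, hO.perp_up hzu]
    rw [hxz, polar_smul_left] at h1
    exact (smul_eq_zero.1 h1).resolve_left hμ
  have hm := Mem.conj (hO.sieg z u hz hzu) hx
  rw [hxz] at hm
  exact hC z' hz' _ (hm.smul_left hQz hp)

/-- an element with image in a rational totally singular 3-space is rational -/
theorem rat_of_image (hO : Over F₀ H) (hC : hO.Closed) {x : oG Q} (hx : x ∈ H) {U : Submodule F₀ (ι → F₀)}
    (hU : hO.rf.TS U) (h3 : finrank F₀ U = 3) (himg : ∀ v, x.1 v - v ∈ rsp U) : RatEl F₀ x := by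
  let bU := Module.finBasisOfFinrankEq F₀ U h3
  let z : Fin 3 → ι → F₀ := fun k => (bU k : ι → F₀)
  have hzU : ∀ k, z k ∈ U := fun k => (bU k).2
  have hli : LinearIndependent F₀ z := bU.linearIndependent.map' U.subtype (Submodule.ker_subtype _)
  have hdual : ∀ i, ∃ u, (∀ k, k ≠ i → polar hO.rf.q (z k) u = 0) ∧ polar hO.rf.q (z i) u = 1 := fun i => by
    obtain ⟨u, hu, hiu⟩ := exists_perp hO.rf.nd₀ (S := Submodule.span F₀ (z '' (Set.univ \ {i})))
      (linearIndependent_iff_notMem_span.1 hli i)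
    exact ⟨u, fun k hk => hu _ (Submodule.subset_span ⟨k, ⟨trivial, hk⟩, rfl⟩), hiu⟩
  choose u hu hiu using hdual
  have hspan : rsp U ≤ Submodule.span F (Set.range fun k => up (z k)) := by
    refine rsp_le fun v hv => ?_
    have e : v = ∑ k, (bU.repr ⟨v, hv⟩ k) • z k := by
      have e1 := congrArg Subtype.val (bU.sum_repr ⟨v, hv⟩)
      simp only [AddSubmonoidClass.coe_finsetSum, Submodule.coe_smul] at e1
      exact e1.symm
    rw [e, map_sum]
    exact Submodule.sum_mem _ fun k _ => by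
      rw [up_smul]; exact Submodule.smul_mem _ _ (Submodule.subset_span ⟨k, rfl⟩)
  have hfix : ∀ y, (∀ w ∈ U, polar hO.rf.q w y = 0) → x.1 (up y) = up y := fun y hy =>
    fix_of_image hO.rf.nd x (rsp U) himg fun w hw =>
      rsp_le (P := LinearMap.ker ((polarBilin Q).flip (up y))) (fun a ha => hO.rf.polar_eq_zero.1 (hy a ha)) hw
  have hgen : ∀ i, RV F₀ (x.1 (up (u i))) := by
    intro i
    obtain ⟨γ, hγ⟩ := (Submodule.mem_span_range_iff_exists_fun F).1 (hspan (himg (up (u i))))
    have hγF : ∀ j, γ j ∈ F₀ := by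
      intro j
      obtain ⟨k, hki, hkj⟩ := (by decide : ∀ i j : Fin 3, ∃ k, k ≠ i ∧ k ≠ j) i j
      obtain ⟨b, t, hb⟩ := hO.pres hC hx (z' := z k) (μ := 1) (hli.ne_zero k) (hU _ (hzU k))
        (by rw [one_smul]; exact hfix _ fun w hw => hU.polar hw (hzU k)) (hu i k hki)
      rw [one_smul] at hb
      have h1 : polar Q (x.1 (up (u i)) - up (u i)) (up (u j)) = γ j := by
        rw [← hγ]
        show polarBilin Q (∑ k, γ k • up (z k)) (up (u j)) = γ j
        rw [map_sum, LinearMap.sum_apply, Finset.sum_eq_single j (fun k _ hk => by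
          rw [map_smul, LinearMap.smul_apply, polarBilin_apply_apply, hO.perp_up (hu j k hk), smul_zero])
          (fun h => absurd (Finset.mem_univ j) h)]
        rw [map_smul, LinearMap.smul_apply, polarBilin_apply_apply, ← hO.rf.coe_polar, hiu, OneMemClass.coe_one,
          smul_eq_mul, mul_one]
      rw [← h1, hb, polar_sub_left, polar_add_left, polar_smul_left, hO.perp_up (hu j k hkj), smul_zero, add_zero]
      exact F₀.sub_mem (hO.rf.polar_mem (rv_up _) (rv_up _)) (hO.rf.polar_mem (rv_up _) (rv_up _))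
    have e : x.1 (up (u i)) = up (u i) + up (∑ k, (⟨γ k, hγF k⟩ : F₀) • z k) := by
      rw [map_sum]
      simp only [up_smul]
      rw [hγ]
      abel
    rw [e]
    exact (rv_up _).add (rv_up _)
  intro a
  set y := a - ∑ k, polar hO.rf.q (z k) a • u k with hy
  have hyz : ∀ w ∈ U, polar hO.rf.q w y = 0 := by
    have h1 : ∀ k, polar hO.rf.q (z k) y = 0 := fun k => by
      show polarBilin hO.rf.q (z k) y = 0
      rw [hy, map_sub, map_sum, Finset.sum_eq_single k (fun j _ hj => by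
        rw [map_smul, polarBilin_apply_apply, hu j k (Ne.symm hj), smul_zero])
        (fun h => absurd (Finset.mem_univ k) h)]
      simp only [map_smul, polarBilin_apply_apply, hiu, smul_eq_mul, mul_one, sub_self]
    intro w hw
    have e1 := congrArg Subtype.val (bU.sum_repr ⟨w, hw⟩)
    simp only [AddSubmonoidClass.coe_finsetSum, Submodule.coe_smul] at e1
    show polarBilin hO.rf.q w y = 0
    rw [← e1, map_sum, LinearMap.sum_apply]
    exact Finset.sum_eq_zero fun k _ => by
      rw [map_smul, LinearMap.smul_apply, polarBilin_apply_apply, h1 k, smul_zero]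
  have e : up a = up y + ∑ k, ((polar hO.rf.q (z k) a : F₀) : F) • up (u k) := by
    rw [hy, map_sub, map_sum]
    simp only [up_smul]
    abel
  intro i
  rw [e, map_add, map_sum, hfix y hyz, Pi.add_apply, Finset.sum_apply]
  refine F₀.add_mem (rv_up y i) (sum_mem fun k _ => ?_)
  rw [map_smul]
  exact (hgen k).smul (SetLike.coe_mem _) i

theorem image_rat {x : oG Q} (hx : RatEl F₀ x) {P : Submodule F (ι → F)} (himg : ∀ v, x.1 v - v ∈ P) (v : ι → F) :
    x.1 v - v ∈ rsp (rin (F₀ := F₀) P) := by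
  have hle : rsp (⊤ : Submodule F₀ (ι → F₀)) ≤ (rsp (rin (F₀ := F₀) P)).comap (x.1.toLinearMap - LinearMap.id) :=
    rsp_le fun a _ => by
      show x.1 (up a) - up a ∈ rsp (rin (F₀ := F₀) P)
      have h1 := up_down ((hx a).sub (rv_up a))
      rw [← h1]
      refine up_mem_rsp ?_
      show up (down ((hx a).sub (rv_up a))) ∈ P
      rw [h1]
      exact himg (up a)
  exact hle (mem_rsp_top v)

/-- a rational root line mapped to a rational line: the first point goes to a rational point -/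
theorem step (hO : Over F₀ H) (hC : hO.Closed) {x : oG Q} (hx : x ∈ H) {z q : ι → F₀} (hzq : hO.Adj z q)
    {Z : Submodule F₀ (ι → F₀)} (hZ : finrank F₀ Z ≤ 2) (hz' : x.1 (up z) ∈ rsp Z) (hq' : x.1 (up q) ∈ rsp Z) :
    ∃ (c : ι → F₀) (t : F), x.1 (up z) = t • up c := by
  have hn := hO.n7
  obtain ⟨hzs, hqs, hzqp, hz0, hqn⟩ := hzq
  set p := x.1 (up z) with hp
  have hp0 : p ≠ 0 := fun e => up_ne_zero hz0 (x.1.map_eq_zero_iff.1 e)
  have hind : x.1 (up q) ∉ Submodule.span F ({p} : Set (ι → F)) := fun hm => by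
    obtain ⟨s, hs⟩ := Submodule.mem_span_singleton.1 hm
    rw [hp, ← map_smul] at hs
    exact hO.up_notMem hqn (Submodule.mem_span_singleton.2 ⟨s, x.1.injective hs⟩)
  have h2dim : 2 ≤ finrank F (Submodule.span F ({p, x.1 (up q)} : Set (ι → F))) := by
    have hlt : Submodule.span F ({p} : Set (ι → F)) < Submodule.span F {p, x.1 (up q)} :=
      lt_of_le_of_ne (Submodule.span_mono (by simp)) fun e => hind (e ▸ Submodule.subset_span (by simp))
    have := Submodule.finrank_lt_finrank_of_lt hlt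
    rw [finrank_span_singleton hp0] at this
    omega
  have hZeq : Submodule.span F ({p, x.1 (up q)} : Set (ι → F)) = rsp Z := Submodule.eq_of_le_of_finrank_le
    (Submodule.span_le.2 (by rintro v (rfl | rfl) <;> assumption)) ((finrank_rsp_le Z).trans (by omega))
  have hZ2 : finrank F₀ Z = 2 := le_antisymm hZ (h2dim.trans (hZeq ▸ finrank_rsp_le Z))
  obtain ⟨z1, hz1, hz1p⟩ : ∃ z1 ∈ Z, up z1 ∉ Submodule.span F ({p} : Set (ι → F)) := by
    by_contra! hall
    exact hind (rsp_le hall hq')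
  have hz10 : z1 ≠ 0 := fun e => hz1p (by rw [e, map_zero]; exact Submodule.zero_mem _)
  obtain ⟨r, hr, hrq, hrn⟩ := hO.rf.exists_out (hO.rf.ts_pair hzs hqs hzqp)
    (by have := finrank_span_pair_le (K := F₀) z q; omega) (Submodule.span F₀ {z, q}) (fun hle => by
      have h1 := Submodule.finrank_mono hle
      have h2 := hO.rf.finrank_perp₀ (Submodule.span F₀ {z, q})
      have := finrank_span_pair_le (K := F₀) z q
      omega)
  obtain ⟨hzr, hqr⟩ := mem_perp_pair.1 hr
  set N := Submodule.span F₀ ({z, q, r} : Set (ι → F₀)) with hN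
  have hNts : hO.rf.TS N := hO.rf.ts_span (by rintro a (rfl | rfl | rfl) <;> assumption) (by
    rintro a (rfl | rfl | rfl) b (rfl | rfl | rfl) <;>
      first
        | (rw [polar_self', hzs, mul_zero])
        | (rw [polar_self', hqs, mul_zero])
        | (rw [polar_self', hrq, mul_zero])
        | assumption
        | (rw [polar_comm]; assumption))
  obtain ⟨hNp, hNq⟩ := hO.rf.rsp_ts hNts
  set N1 := (rsp N).map x.1.toLinearMap with hN1
  have hN1p : ∀ v ∈ N1, ∀ w ∈ N1, polar Q v w = 0 := by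
    rintro _ ⟨v, hv, rfl⟩ _ ⟨w, hw, rfl⟩
    show polar Q (x.1 v) (x.1 w) = 0
    rw [polar_oG, hNp v hv w hw]
  have hN1q : ∀ v ∈ N1, Q v = 0 := by
    rintro _ ⟨v, hv, rfl⟩
    show Q (x.1 v) = 0
    rw [x.2, hNq v hv]
  have hzN : p ∈ N1 := Submodule.mem_map_of_mem (up_mem_rsp (Submodule.subset_span (by simp)))
  have hqN : x.1 (up q) ∈ N1 := Submodule.mem_map_of_mem (up_mem_rsp (Submodule.subset_span (by simp)))
  have hrN : x.1 (up r) ∈ N1 := Submodule.mem_map_of_mem (up_mem_rsp (Submodule.subset_span (by simp)))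
  have hZN : rsp Z ≤ N1 := hZeq ▸ Submodule.span_le.2 (by rintro v (rfl | rfl) <;> assumption)
  have hz1N : up z1 ∈ N1 := hZN (up_mem_rsp hz1)
  obtain ⟨hsp, hspw, hsH⟩ := Mem.conj (hO.sieg z r hzs hzr) hx
  set s := sO hsp hspw with hs
  have hsz : s.1 (up z1) = up z1 := by
    rw [hs, sO_apply, ← hp, hN1p _ hz1N _ hzN, hN1p _ hz1N _ hrN]
    simp
  obtain ⟨u, hz1u, hpu⟩ : ∃ u, polar hO.rf.q z1 u = 0 ∧ polar Q p (up u) ≠ 0 := by
    by_contra! hall
    have h1 := hO.rf.mem_rsp_of_perp (S := Submodule.span F₀ {z1}) (π := p) fun u hu =>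
      hall u (hu z1 (Submodule.mem_span_singleton_self z1))
    rw [rsp_span_singleton] at h1
    obtain ⟨t, ht⟩ := Submodule.mem_span_singleton.1 h1
    have ht0 : t ≠ 0 := fun e => hp0 (by rw [← ht, e, zero_smul])
    exact hz1p (Submodule.mem_span_singleton.2 ⟨t⁻¹, by rw [← ht, inv_smul_smul₀ ht0]⟩)
  obtain ⟨b, c, hb⟩ := hO.pres hC hsH (z' := z1) (μ := 1) hz10 (by
      exact hO.rf.q_eq_zero.2 (hN1q _ hz1N)) (by rw [one_smul]; exact hsz) hz1u
  rw [one_smul, hs, sO_apply, ← hp, hN1q _ hrN, zero_mul, neg_zero, zero_smul, add_zero, polar_comm Q (up u) p] at hb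
  set μ := polar Q p (up u) with hμ
  set a := b - u with had
  have hxr : μ • x.1 (up r) = polar Q (up u) (x.1 (up r)) • p + (-c) • up z1 - up a := by
    rw [had, map_sub]
    linear_combination (norm := module) -(1 : F) • hb
  have hnZ : x.1 (up r) ∉ rsp Z := fun hm => by
    rw [← hZeq] at hm
    obtain ⟨s', t', e⟩ := Submodule.mem_span_pair.1 hm
    rw [hp, ← map_smul x.1, ← map_smul x.1, ← map_add x.1] at e
    exact hrn (hO.rf.mem_rsp_iff.1 (by rw [rsp_span_pair]; exact Submodule.mem_span_pair.2 ⟨s', t', x.1.injective e⟩))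
  have haZ : a ∉ Z := fun ha => hnZ ((Submodule.smul_mem_iff _ hpu).1 (by
    rw [hxr]
    exact Submodule.sub_mem _ (Submodule.add_mem _ (Submodule.smul_mem _ _ hz')
      (Submodule.smul_mem _ _ (up_mem_rsp hz1))) (up_mem_rsp ha)))
  set U := Z ⊔ Submodule.span F₀ {a} with hU
  have haN : up a ∈ N1 := by
    rw [show up a = polar Q (up u) (x.1 (up r)) • p + (-c) • up z1 - μ • x.1 (up r) by rw [hxr]; abel]
    exact N1.sub_mem (N1.add_mem (N1.smul_mem _ hzN) (N1.smul_mem _ hz1N)) (N1.smul_mem _ hrN)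
  have hUN : rsp U ≤ N1 := by
    rw [hU, rsp_sup, rsp_span_singleton]
    exact sup_le hZN ((Submodule.span_singleton_le_iff_mem _ _).2 haN)
  have hUts : hO.rf.TS U := fun v hv => hO.rf.q_eq_zero.2 (hN1q _ (hUN (up_mem_rsp hv)))
  have hU3 : finrank F₀ U = 3 := by
    have h1 := Submodule.finrank_add_le_finrank_add_finrank Z (Submodule.span F₀ {a})
    have h2 := finrank_span_singleton_le (K := F₀) a
    have h3 := Submodule.finrank_lt_finrank_of_lt (lt_of_le_of_ne (le_sup_left : Z ≤ U) fun e =>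
      haZ (e ▸ Submodule.mem_sup_right (Submodule.mem_span_singleton_self a)))
    rw [hU]
    omega
  set P := Submodule.span F ({p, x.1 (up r)} : Set (ι → F)) with hP
  have hsimg : ∀ v, s.1 v - v ∈ P := fun v => by
    rw [hs, sO_apply, ← hp, hN1q _ hrN, zero_mul, neg_zero, zero_smul, add_zero, add_assoc, add_sub_cancel_left]
    exact Submodule.mem_span_pair.2 ⟨_, _, rfl⟩
  have hPU : P ≤ rsp U := by
    rw [hP, Submodule.span_le]
    rintro v (rfl | rfl)
    · exact rsp_mono le_sup_left hz'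
    · refine (Submodule.smul_mem_iff _ hpu).1 ?_
      rw [hxr]
      exact Submodule.sub_mem _ (Submodule.add_mem _ (Submodule.smul_mem _ _ (rsp_mono le_sup_left hz'))
        (Submodule.smul_mem _ _ (rsp_mono le_sup_left (up_mem_rsp hz1))))
        (rsp_mono le_sup_right (up_mem_rsp (Submodule.mem_span_singleton_self a)))
  have hsrat := hO.rat_of_image hC hsH hUts hU3 fun v => hPU (hsimg v)
  obtain ⟨v, hv, hrv⟩ := exists_perp hO.rf.nd (S := Submodule.span F ({p} : Set (ι → F))) (x := x.1 (up r))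
    (fun hm => hnZ ((Submodule.span_singleton_le_iff_mem _ _).2 hz' hm))
  have hpX : p ∈ rsp (rin (F₀ := F₀) P) := by
    have h1 := image_rat hsrat hsimg v
    rw [hs, sO_apply, ← hp, hN1q _ hrN, zero_mul, neg_zero, zero_smul, add_zero, polar_comm Q v (x.1 (up r)), hrv,
      polar_comm Q v p, hv p (Submodule.mem_span_singleton_self p), one_smul, neg_zero, zero_smul, add_zero,
      add_sub_cancel_left] at h1
    exact h1
  have hY := hO.rf.rsp_inter hpX hz'
  set Y := rin (F₀ := F₀) P ⊓ Z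
  rcases Nat.lt_or_ge (finrank F₀ Y) 2 with h | h
  · obtain ⟨c', hc', hc'0⟩ := Submodule.exists_mem_ne_zero_of_ne_bot (p := Y) fun e => hp0 (by
      rw [e, rsp_bot] at hY
      exact (Submodule.mem_bot _).1 hY)
    have e : Y = Submodule.span F₀ {c'} := (Submodule.eq_of_le_of_finrank_le
      ((Submodule.span_singleton_le_iff_mem _ _).2 hc') (by rw [finrank_span_singleton hc'0]; omega)).symm
    rw [e, rsp_span_singleton] at hY
    obtain ⟨t, ht⟩ := Submodule.mem_span_singleton.1 hY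
    exact ⟨c', t, ht.symm⟩
  · exfalso
    have e : Y = Z := Submodule.eq_of_le_of_finrank_le inf_le_right (by omega)
    have hle : rsp Z ≤ P := le_trans (rsp_mono (e ▸ inf_le_left)) (rsp_rin_le P)
    have := Submodule.eq_of_le_of_finrank_le hle ((finrank_span_pair_le (K := F) p (x.1 (up r))).trans
      (by rw [hO.rf.finrank_rsp Z]; omega))
    exact hnZ (this ▸ Submodule.subset_span (by simp))

/-- a rational point mapped to a rational point: so are its neighbours -/
theorem point (hO : Over F₀ H) (hC : hO.Closed) {x : oG Q} (hx : x ∈ H) {z q : ι → F₀} (hzq : hO.Adj z q)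
    (h : ∃ (z' : ι → F₀) (μ : F), x.1 (up z) = μ • up z') : ∃ (q' : ι → F₀) (ν : F), x.1 (up q) = ν • up q' := by
  obtain ⟨z', μ, hxz⟩ := h
  obtain ⟨hzs, hqs, hzqp, hz0, hqn⟩ := hzq
  obtain ⟨b, t, hb⟩ := hO.pres hC hx hz0 hzs hxz hzqp
  have hμ : μ ≠ 0 := fun e => up_ne_zero hz0 (x.1.map_eq_zero_iff.1 (by rw [hxz, e, zero_smul]))
  have hzq : hO.Adj z q := ⟨hzs, hqs, hzqp, hz0, hqn⟩
  refine hO.step hC hx hzq.symm (Z := Submodule.span F₀ {z', b}) (finrank_span_pair_le z' b) ?_ ?_
  · rw [← inv_smul_smul₀ hμ (x.1 (up q)), hb, rsp_span_pair]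
    exact Submodule.smul_mem _ _ (Submodule.mem_span_pair.2 ⟨t, 1, by rw [one_smul]; abel⟩)
  · rw [hxz, rsp_span_pair]
    exact Submodule.smul_mem _ _ (Submodule.subset_span (by simp))

theorem product (hO : Over F₀ H) (hC : hO.Closed) {x : oG Q} (hx : x ∈ H) {y s y' s' : ι → F₀} {μ ν : F}
    (hys : hO.Adj y s) (hy : x.1 (up y) = μ • up y') (hs : x.1 (up s) = ν • up s') : μ * ν ∈ F₀ := by
  obtain ⟨hyq, hsq, hysp, hy0, hsn⟩ := hys
  obtain ⟨b, t, hb⟩ := hO.pres hC hx hy0 hyq hy hysp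
  rw [hs, smul_smul] at hb
  have hy'0 : y' ≠ 0 := fun e => up_ne_zero hy0 (x.1.map_eq_zero_iff.1 (by rw [hy, e, map_zero, smul_zero]))
  have hμ : μ ≠ 0 := fun e => up_ne_zero hy0 (x.1.map_eq_zero_iff.1 (by rw [hy, e, zero_smul]))
  have hν : ν ≠ 0 := fun e => up_ne_zero (fun e0 : s = 0 => hsn (by rw [e0]; exact Submodule.zero_mem _))
    (x.1.map_eq_zero_iff.1 (by rw [hs, e, zero_smul]))
  have hs'n : up s' ∉ Submodule.span F ({up y'} : Set (ι → F)) := fun hm => by
    obtain ⟨k, hk⟩ := Submodule.mem_span_singleton.1 hm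
    refine hO.up_notMem hsn (Submodule.mem_span_singleton.2 ⟨ν * k * μ⁻¹, x.1.injective ?_⟩)
    rw [map_smul, hy, hs, ← hk, smul_smul, smul_smul, mul_assoc, inv_mul_cancel₀ hμ, mul_one]
  obtain ⟨α, β, e⟩ := Submodule.mem_span_pair.1 ((hO.rf.mem_rsp_iff (S := Submodule.span F₀ {s', y'}) (v := b)).1 (by
    rw [rsp_span_pair]
    exact Submodule.mem_span_pair.2 ⟨μ * ν, -t, by rw [hb]; module⟩))
  rw [← e, map_add, up_smul, up_smul] at hb
  by_contra hne
  have hd : μ * ν - (α : F) ≠ 0 := sub_ne_zero.2 fun e' => hne (e' ▸ α.2)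
  exact hs'n (Submodule.mem_span_singleton.2 ⟨(μ * ν - (α : F))⁻¹ * ((β : F) + t), by
    rw [mul_smul, inv_smul_eq_iff₀ hd]
    linear_combination (norm := module) -(1 : F) • hb⟩)

/-- a rational point mapped to a rational point makes the element rational -/
theorem rat_of_point (hO : Over F₀ H) (hC : hO.Closed) {x : oG Q} (hx : x ∈ H) {z : ι → F₀} (hz0 : z ≠ 0)
    (hzs : hO.rf.q z = 0) (h : ∃ (z' : ι → F₀) (μ : F), x.1 (up z) = μ • up z') : RatEl F₀ x := by
  have hn := hO.n7
  obtain ⟨z', μ, hxz⟩ := h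
  have hμ : μ ≠ 0 := fun e => up_ne_zero hz0 (x.1.map_eq_zero_iff.1 (by rw [hxz, e, zero_smul]))
  have third : ∀ {a d}, hO.Adj a d → ∃ e, hO.Adj a e ∧ hO.Adj d e := fun {a d} had => by
    obtain ⟨ha, hd, hadp, ha0, hdn⟩ := had
    obtain ⟨e, he, heq, hen⟩ := hO.rf.exists_out (hO.rf.ts_pair ha hd hadp)
      (by have := finrank_span_pair_le (K := F₀) a d; omega) (Submodule.span F₀ {a, d}) (fun hle => by
        have h1 := Submodule.finrank_mono hle
        have h2 := hO.rf.finrank_perp₀ (Submodule.span F₀ {a, d})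
        have := finrank_span_pair_le (K := F₀) a d
        omega)
    obtain ⟨hae, hde⟩ := mem_perp_pair.1 he
    exact ⟨e, ⟨ha, heq, hae, ha0, fun hm => hen (Submodule.span_mono (by simp) hm)⟩,
      ⟨hd, heq, hde, fun e0 => hdn (e0 ▸ Submodule.zero_mem _), fun hm => hen (Submodule.span_mono (by simp) hm)⟩⟩
  have hμ2 : ∀ {a a' : ι → F₀} {κ : F}, x.1 (up a) = κ • up a' → ∀ {d}, hO.Adj a d → κ * κ ∈ F₀ := by
    intro a a' κ ha d had
    obtain ⟨e, hae, hde⟩ := third had
    obtain ⟨d', ν, hd⟩ := hO.point hC hx had ⟨a', κ, ha⟩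
    obtain ⟨e', τ, he⟩ := hO.point hC hx hae ⟨a', κ, ha⟩
    have hν : ν ≠ 0 := fun e0 => up_ne_zero had.symm.2.2.2.1 (x.1.map_eq_zero_iff.1 (by rw [hd, e0, zero_smul]))
    have hτ : τ ≠ 0 := fun e0 => up_ne_zero hae.symm.2.2.2.1 (x.1.map_eq_zero_iff.1 (by rw [he, e0, zero_smul]))
    have h1 := F₀.div_mem (F₀.mul_mem (hO.product hC hx had ha hd) (hO.product hC hx hae ha he))
      (hO.product hC hx hde hd he)
    convert h1 using 1
    field_simp
  -- propagation along orthogonal pairs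
  have next' : ∀ {a d}, hO.Adj a d → (∃ (a' : ι → F₀) (κ : F), x.1 (up a) = κ • up a' ∧ μ * κ ∈ F₀) →
      ∃ (d' : ι → F₀) (ν : F), x.1 (up d) = ν • up d' ∧ μ * ν ∈ F₀ := by
    rintro a d had ⟨a', κ, ha, hμκ⟩
    obtain ⟨d', ν, hd⟩ := hO.point hC hx had ⟨a', κ, ha⟩
    have hκ : κ ≠ 0 := fun e0 => up_ne_zero had.2.2.2.1 (x.1.map_eq_zero_iff.1 (by rw [ha, e0, zero_smul]))
    refine ⟨d', ν, hd, ?_⟩
    have h1 := F₀.div_mem (F₀.mul_mem hμκ (hO.product hC hx had ha hd)) (hμ2 ha had)
    convert h1 using 1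
    field_simp
  obtain ⟨w, hzwp, hw, hwn⟩ := hO.rf.exists_out (hO.rf.ts_singleton hzs)
    (by have := finrank_span_singleton_le (K := F₀) z; omega) (Submodule.span F₀ {z}) (fun hle => by
      have h1 := Submodule.finrank_mono hle
      have h2 := hO.rf.finrank_perp₀ (Submodule.span F₀ {z})
      have := finrank_span_singleton_le (K := F₀) z
      omega)
  have hzw : hO.Adj z w := ⟨hzs, hw, mem_perp_singleton.1 hzwp, hz0, hwn⟩
  have hzμ : μ * μ ∈ F₀ := hμ2 hxz hzw
  let X : Submodule F₀ (ι → F₀) :=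
    { carrier := {a | RV F₀ (μ • x.1 (up a))}
      zero_mem' := by show RV F₀ (μ • x.1 (up 0)); rw [map_zero, map_zero, smul_zero]; exact fun _ => F₀.zero_mem
      add_mem' := fun {a b} ha hb => by
        show RV F₀ (μ • x.1 (up (a + b))); rw [map_add, map_add, smul_add]; exact ha.add hb
      smul_mem' := fun c a ha => by
        show RV F₀ (μ • x.1 (up (c • a))); rw [up_smul, map_smul, smul_comm]; exact ha.smul c.2 }
  have hX : perpS hO.rf.q ⊥ ≤ X := by
    refine hO.rf.perp_le hO.rf.ts_bot (by rw [finrank_bot]; omega) X fun y _ hy => ?_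
    rcases eq_or_ne y 0 with rfl | hy0
    · exact X.zero_mem
    suffices h : ∃ (y' : ι → F₀) (ν : F), x.1 (up y) = ν • up y' ∧ μ * ν ∈ F₀ by
      obtain ⟨y', ν, e, hν⟩ := h
      show RV F₀ (μ • x.1 (up y))
      rw [e, smul_smul]
      exact (rv_up y').smul hν
    have base : ∃ (z' : ι → F₀) (κ : F), x.1 (up z) = κ • up z' ∧ μ * κ ∈ F₀ := ⟨z', μ, hxz, hzμ⟩
    by_cases hyz : y ∈ Submodule.span F₀ ({z} : Set (ι → F₀))
    · obtain ⟨k, rfl⟩ := Submodule.mem_span_singleton.1 hyz
      exact ⟨k • z', μ, by rw [up_smul, map_smul, hxz, up_smul, smul_comm], hzμ⟩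
    by_cases hzy : polar hO.rf.q z y = 0
    · exact next' ⟨hzs, hy, hzy, hz0, hyz⟩ base
    obtain ⟨s, hs, hs0, hsq⟩ := NdFour.exists_sing_mem (Q := hO.rf.q) (perpS hO.rf.q (Submodule.span F₀ {z, y}))
      (by have := hO.rf.finrank_perp₀ (Submodule.span F₀ {z, y}); have := finrank_span_pair_le (K := F₀) z y; omega)
    obtain ⟨hzs', hys⟩ := mem_perp_pair.1 hs
    have h1 : hO.Adj z s := ⟨hzs, hsq, hzs', hz0, fun hm => by
      obtain ⟨k, rfl⟩ := Submodule.mem_span_singleton.1 hm
      rw [polar_smul_right, polar_comm, smul_eq_zero] at hys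
      exact hzy (hys.resolve_left fun e => hs0 (by rw [e, zero_smul]))⟩
    refine next' ⟨hsq, hy, by rw [polar_comm, hys], hs0, fun hm => ?_⟩ (next' h1 base)
    obtain ⟨k, rfl⟩ := Submodule.mem_span_singleton.1 hm
    rw [polar_smul_right, hzs', smul_zero] at hzy
    exact hzy rfl
  have hall : ∀ a, RV F₀ (μ • x.1 (up a)) := fun a =>
    hX (mem_perpS.2 fun u hu => by rw [(Submodule.mem_bot _).1 hu, polar_zero_left])
  -- in odd dimension the scalar is rational
  have hμF : μ ∈ F₀ := by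
    set M : Matrix ι ι F := LinearMap.toMatrix' x.1.toLinearMap with hM
    have hent : ∀ i j, μ * M i j ∈ F₀ := fun i j => by
      have h1 := hall (down (rv_single j)) i
      rw [up_down] at h1
      rw [hM, LinearMap.toMatrix'_apply]
      exact h1
    have hdet : μ ^ Fintype.card ι * M.det ∈ F₀ := by
      rw [← Matrix.det_smul]
      have e : μ • M = (Matrix.of fun i j => (⟨μ * M i j, hent i j⟩ : F₀)).map F₀.subtype := by ext i j; rfl
      rw [e, ← RingHom.mapMatrix_apply, ← RingHom.map_det]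
      exact SetLike.coe_mem _
    have hM1 := det_eq_one_or_neg_one hO.rf.nd (M := M) fun v => by
      rw [hM, LinearMap.toMatrix'_mulVec]; exact x.2 v
    have hodd : μ ^ Fintype.card ι ∈ F₀ := by
      rcases hM1 with e | e <;> rw [e] at hdet
      · simpa using hdet
      · simpa using hdet
    obtain ⟨k, hk⟩ := hO.odd
    have e : μ = μ ^ Fintype.card ι / (μ * μ) ^ k := by
      rw [hk, pow_succ, pow_mul, ← _root_.sq, mul_div_cancel_left₀ _ (pow_ne_zero _ (pow_ne_zero _ hμ))]
    rw [e]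
    exact F₀.div_mem hodd (pow_mem hzμ k)
  intro a
  have := (hall a).smul (F₀.inv_mem hμF)
  rwa [inv_smul_smul₀ hμ] at this

/-- a rational totally singular subspace mapped to a rational one makes the element rational -/
theorem rat_of_space (hO : Over F₀ H) (hC : hO.Closed) {x : oG Q} (hx : x ∈ H) {U U' : Submodule F₀ (ι → F₀)}
    (hU : hO.rf.TS U) (hU' : hO.rf.TS U') (hU0 : U ≠ ⊥) (h3 : finrank F₀ U ≤ 3) (hle : finrank F₀ U' ≤ finrank F₀ U)
    (hmap : ∀ a ∈ U, x.1 (up a) ∈ rsp U') : RatEl F₀ x := by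
  obtain ⟨z, hz, hz0⟩ := Submodule.exists_mem_ne_zero_of_ne_bot hU0
  refine hO.rat_of_point hC hx hz0 (hU z hz) ?_
  by_cases h1 : finrank F₀ U' ≤ 1
  · obtain ⟨c, hc, hc0⟩ := Submodule.exists_mem_ne_zero_of_ne_bot (p := U') fun e => by
      have := hmap z hz
      rw [e, rsp_bot] at this
      exact up_ne_zero hz0 (x.1.map_eq_zero_iff.1 ((Submodule.mem_bot _).1 this))
    have e : U' = Submodule.span F₀ {c} := (Submodule.eq_of_le_of_finrank_le
      ((Submodule.span_singleton_le_iff_mem _ _).2 hc) (by rw [finrank_span_singleton hc0]; omega)).symm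
    have := hmap z hz
    rw [e, rsp_span_singleton] at this
    obtain ⟨t, ht⟩ := Submodule.mem_span_singleton.1 this
    exact ⟨c, t, ht.symm⟩
  obtain ⟨q, hq, hqn⟩ : ∃ q ∈ U, q ∉ Submodule.span F₀ ({z} : Set (ι → F₀)) := by
    by_contra! hall
    have h2 := (Submodule.finrank_mono (show U ≤ Submodule.span F₀ {z} from hall)).trans (finrank_span_singleton_le z)
    omega
  have hzq : hO.Adj z q := ⟨hU z hz, hU q hq, hU.polar hz hq, hz0, hqn⟩
  by_cases h2 : finrank F₀ U' ≤ 2
  · exact hO.step hC hx hzq h2 (hmap z hz) (hmap q hq)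
  obtain ⟨hsp, hspw, hsH⟩ := Mem.conj (hO.sieg z q (hU z hz) (hU.polar hz hq)) hx
  set s := sO hsp hspw with hs
  set P := Submodule.span F ({x.1 (up z), x.1 (up q)} : Set (ι → F))
  have hsimg : ∀ v, s.1 v - v ∈ P := fun v => by
    rw [hs, sO_apply, x.2, hO.sing_up (hU q hq), zero_mul, neg_zero, zero_smul, add_zero, add_assoc, add_sub_cancel_left]
    exact Submodule.mem_span_pair.2 ⟨_, _, rfl⟩
  have hPU : P ≤ rsp U' := Submodule.span_le.2 (by rintro v (rfl | rfl) <;> exact hmap _ (by assumption))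
  have hsrat := hO.rat_of_image hC hsH hU' (by omega) fun v => hPU (hsimg v)
  have hX : finrank F₀ (rin (F₀ := F₀) P) ≤ 2 := by
    rw [← hO.rf.finrank_rsp]
    exact (Submodule.finrank_mono (rsp_rin_le P)).trans (finrank_span_pair_le _ _)
  refine hO.step hC hx hzq hX ?_ ?_
  · obtain ⟨v, hv, hv1⟩ := exists_perp hO.rf.nd (S := Submodule.span F ({x.1 (up z)} : Set (ι → F)))
      (x := x.1 (up q)) (fun hm => by
        obtain ⟨k, hk⟩ := Submodule.mem_span_singleton.1 hm
        rw [← map_smul] at hk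
        exact hO.up_notMem hqn (Submodule.mem_span_singleton.2 ⟨k, x.1.injective hk⟩))
    have h3 := image_rat hsrat hsimg v
    rw [hs, sO_apply, x.2, hO.sing_up (hU q hq), zero_mul, neg_zero, zero_smul, add_zero, polar_comm Q v (x.1 (up q)),
      hv1, polar_comm Q v (x.1 (up z)), hv _ (Submodule.mem_span_singleton_self _), one_smul, neg_zero, zero_smul,
      add_zero, add_sub_cancel_left] at h3
    exact h3
  · obtain ⟨v, hv, hv1⟩ := exists_perp hO.rf.nd (S := Submodule.span F ({x.1 (up q)} : Set (ι → F)))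
      (x := x.1 (up z)) (fun hm => by
        obtain ⟨k, hk⟩ := Submodule.mem_span_singleton.1 hm
        rw [← map_smul] at hk
        exact hO.up_notMem hzq.symm.2.2.2.2 (Submodule.mem_span_singleton.2 ⟨k, x.1.injective hk⟩))
    have h3 := image_rat hsrat hsimg v
    rw [hs, sO_apply, x.2, hO.sing_up (hU q hq), zero_mul, neg_zero, zero_smul, add_zero, polar_comm Q v (x.1 (up z)),
      hv1, polar_comm Q v (x.1 (up q)), hv _ (Submodule.mem_span_singleton_self _), zero_smul, add_zero,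
      add_sub_cancel_left, neg_smul, one_smul, neg_mem_iff] at h3
    exact h3

end Over

end Cfsg.Agent.ClassicalMax.Subfield.Odd
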