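import Cfsg.Agent.ClassicalMax.Subfield.Odd.Rat

/-!
One Siegel transformation with rational centre and irrational parameter generates, with the rational ones, all
Siegel transformations.
-/

set_option autoImplicit false
set_option linter.unusedSectionVars false
set_option linter.style.haveILetI false

namespace Cfsg.Agent.ClassicalMax.Subfield.Odd

open Module QuadraticMap Cfsg.Agent.Classical Cfsg.Agent.Classical.Quad
open Cfsg.Agent.ClassicalMax.RootPlanes (NdOn perpS mem_perpS finrank_perpS tS Full)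

variable {ι : Type} [Fintype ι] [DecidableEq ι] {F : Type*} [Field F] [Fintype F] {F₀ : Subfield F}
  {Q : QuadraticForm F (ι → F)} {H : Subgroup (oG Q)}

/-- the Siegel transformation of `p, w` lies in `H` -/
def Mem (H : Subgroup (oG Q)) (p w : ι → F) : Prop :=
  ∃ (hp : Q p = 0) (hpw : polar Q p w = 0), sO hp hpw ∈ H

theorem Mem.sing {p w : ι → F} (h : Mem H p w) : Q p = 0 := h.1

theorem Mem.perp {p w : ι → F} (h : Mem H p w) : polar Q p w = 0 := h.2.1

theorem Mem.mem {p w : ι → F} (h : Mem H p w) (hp : Q p = 0) (hpw : polar Q p w = 0) : sO hp hpw ∈ H := h.2.2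

theorem Mem.zero {p : ι → F} (hp : Q p = 0) : Mem H p 0 :=
  ⟨hp, polar_zero_right Q p, by
    rw [sO_congr hp (polar_zero_right Q p) (by simp [polar]) rfl, sO_zero]
    exact one_mem H⟩

theorem Mem.add {p w w' : ι → F} (h : Mem H p w) (h' : Mem H p w') : Mem H p (w + w') :=
  ⟨h.1, polar_perp_add h.2.1 h'.2.1, sO_mul h.1 h.2.1 h'.2.1 ▸ mul_mem h.2.2 h'.2.2⟩

theorem Mem.neg {p w : ι → F} (h : Mem H p w) : Mem H p (-w) :=
  ⟨h.1, polar_perp_neg h.2.1, sO_inv h.1 h.2.1 ▸ inv_mem h.2.2⟩

theorem Mem.smul_left {p w : ι → F} {c : F} (h : Mem H (c • p) w) (hp : Q p = 0) (hpw : polar Q p w = 0) :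
    Mem H p (c • w) :=
  ⟨hp, polar_perp_smul hpw c, sO_smul_left hp hpw c h.1 h.2.1 ▸ h.2.2⟩

theorem Mem.conj {p w : ι → F} (h : Mem H p w) {g : oG Q} (hg : g ∈ H) : Mem H (g.1 p) (g.1 w) := by
  obtain ⟨hp, hpw, hm⟩ := h
  refine ⟨by rw [g.2, hp], by rw [polar_oG, hpw], ?_⟩
  have h1 := mul_mem (mul_mem hg hm) (inv_mem hg)
  rwa [conj_sO] at h1

theorem Mem.symm {p w : ι → F} (h : Mem H p w) (hw : Q w = 0) : Mem H w (-p) := by
  obtain ⟨hp, hpw, hm⟩ := h
  have hwp : polar Q w (-p) = 0 := polar_perp_neg (by rw [polar_comm, hpw])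
  refine ⟨hw, hwp, ?_⟩
  have e : sO hw hwp = sO hp hpw := ext_oG fun x => by
    simp only [sO_apply, polar_neg_right, QuadraticMap.map_neg, hp, hw]
    module
  rwa [e]

theorem Mem.multiple {p : ι → F} (hp : Q p = 0) (t : F) : Mem H p (t • p) := by
  have h : polar Q p (t • p) = 0 := polar_perp_smul (by rw [polar_self', hp, mul_zero]) t
  exact ⟨hp, h, (sO_smul_self hp t h).symm ▸ one_mem H⟩

variable (F₀ H)

/-- the hypotheses on the group -/
structure Over : Prop where
  rf : RForm F₀ Q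
  n7 : 7 ≤ Fintype.card ι
  odd : Odd (Fintype.card ι)
  prime : ∃ r : ℕ, r.Prime ∧ Fintype.card F = Nat.card F₀ ^ r
  sieg : ∀ a b : ι → F₀, rf.q a = 0 → polar rf.q a b = 0 → Mem H (up a) (up b)

variable {F₀ H}

namespace Over

/-- isolated orthogonal singular pair -/
def Adj (hO : Over F₀ H) (a d : ι → F₀) : Prop :=
  hO.rf.q a = 0 ∧ hO.rf.q d = 0 ∧ polar hO.rf.q a d = 0 ∧ a ≠ 0 ∧ d ∉ Submodule.span F₀ ({a} : Set (ι → F₀))

theorem Adj.symm {hO : Over F₀ H} {a d : ι → F₀} (h : hO.Adj a d) : hO.Adj d a := by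
  obtain ⟨ha, hd, had, ha0, hn⟩ := h
  refine ⟨hd, ha, by rw [polar_comm, had], fun e => hn (e ▸ Submodule.zero_mem _), fun hm => ?_⟩
  obtain ⟨t, ht⟩ := Submodule.mem_span_singleton.1 hm
  have ht0 : t ≠ 0 := fun e => ha0 (by rw [← ht, e, zero_smul])
  exact hn (Submodule.mem_span_singleton.2 ⟨t⁻¹, by rw [← ht, inv_smul_smul₀ ht0]⟩)

theorem sing_up (hO : Over F₀ H) {a : ι → F₀} (ha : hO.rf.q a = 0) : Q (up a) = 0 := hO.rf.q_eq_zero.1 ha

theorem perp_up (hO : Over F₀ H) {a b : ι → F₀} (h : polar hO.rf.q a b = 0) : polar Q (up a) (up b) = 0 :=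
  hO.rf.polar_eq_zero.1 h

/-- the value of a parameter on a singular vector gives a parameter along it -/
theorem pull (hO : Over F₀ H) {z r : ι → F₀} (hr : hO.rf.q r = 0) (hzr : polar hO.rf.q z r = 0) {w : ι → F}
    (hw : Mem H (up z) w) (c : F₀) : Mem H (up z) (((c : F) * polar Q w (up r)) • up r) := by
  have hrf := hO.rf
  have hn := hO.n7
  have hz : hO.rf.q z = 0 := hO.rf.q_eq_zero.2 hw.sing
  rcases eq_or_ne c 0 with rfl | hc
  · rw [ZeroMemClass.coe_zero, zero_mul, zero_smul]; exact Mem.zero hw.sing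
  obtain ⟨v, hv, hqv⟩ := hO.rf.exists_value₀ (hO.rf.ts_pair hz hr hzr)
    (by have := finrank_span_pair_le (K := F₀) z r; omega) (c := -c / 2) (div_ne_zero (neg_ne_zero.2 hc) hO.rf.two₀)
  obtain ⟨hzv, hrv⟩ := mem_perp_pair.1 hv
  have hs := (hO.sieg r v hr hrv).mem (hO.sing_up hr) (hO.perp_up hrv)
  have hs' := inv_mem hs
  rw [sO_inv] at hs'
  have hrv' : polar Q (up r) (-up v) = 0 := polar_perp_neg (hO.perp_up hrv)
  have e1 : (sO (hO.sing_up hr) (hO.perp_up hrv)).1 (up z) = up z := by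
    rw [sO_apply, hO.perp_up hzv, hO.perp_up hzr]
    simp
  have e2 : (sO (hO.sing_up hr) hrv').1 (up z) = up z := by
    rw [sO_apply, polar_neg_right, hO.perp_up hzv, hO.perp_up hzr]
    simp
  have h1 := hw.conj hs
  have h2 := hw.conj hs'
  rw [e1] at h1
  rw [e2] at h2
  have h3 := (h1.add h2).add (hw.neg.add hw.neg)
  have hqv' : 2 * Q (up v) = -(c : F) := by
    rw [← hO.rf.coe_q, hqv]
    push_cast
    have e2' : ((2 : F₀) : F) = 2 := map_ofNat F₀.subtype 2
    rw [e2']
    field_simp [hO.rf.two]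
  convert h3 using 1
  rw [sO_apply, sO_apply, QuadraticMap.map_neg, polar_neg_right]
  rw [show (c : F) = -(2 * Q (up v)) by rw [hqv', neg_neg]]
  module

/-- the parameter `l` along the pair `a, d` -/
def Lp (_hO : Over F₀ H) (a d : ι → F₀) (l : F) : Prop := Mem H (up a) (l • up d)

theorem Lp.neg {hO : Over F₀ H} {a d : ι → F₀} {l : F} (h : hO.Lp a d l) : hO.Lp a d (-l) := by
  show Mem H (up a) ((-l) • up d)
  rw [neg_smul]
  exact Mem.neg h

theorem Lp.add {hO : Over F₀ H} {a d : ι → F₀} {l m : F} (h : hO.Lp a d l) (h' : hO.Lp a d m) : hO.Lp a d (l + m) := by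
  show Mem H (up a) ((l + m) • up d)
  rw [add_smul]
  exact Mem.add h h'

theorem Lp.swap {hO : Over F₀ H} {a d : ι → F₀} {l : F} (had : hO.Adj a d) (h : hO.Lp a d l) : hO.Lp d a l := by
  have hd := hO.sing_up had.2.1
  have h1 : Mem H (l • up d) (-up a) := Mem.symm h (by rw [map_smul', hd, mul_zero])
  have h2 := h1.smul_left hd (polar_perp_neg (hO.perp_up had.symm.2.2.1))
  rw [smul_neg] at h2
  show Mem H (up d) (l • up a)
  simpa using Mem.neg h2

/-- parameters do not depend on the second vector -/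
theorem Lp.const {hO : Over F₀ H} {a d d' : ι → F₀} {l : F} (had : hO.Adj a d) (had' : hO.Adj a d') (c : F₀)
    (h : hO.Lp a d l) : hO.Lp a d' ((c : F) * l) := by
  have hn := hO.n7
  obtain ⟨ha, hd, hadp, ha0, hdn⟩ := had
  obtain ⟨-, hd', hadp', -, hdn'⟩ := had'
  obtain ⟨e, he, heq, hed, hed'⟩ := hO.rf.exists_common₀ (hO.rf.ts_singleton ha)
    (by have := finrank_span_singleton_le (K := F₀) a; omega) (mem_perp_singleton.2 hadp) hd hdn
    (mem_perp_singleton.2 hadp') hd' hdn'
  have he' := mem_perp_singleton.1 he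
  have h1 := hO.pull heq he' h (polar hO.rf.q d e)⁻¹
  rw [polar_smul_left, smul_eq_mul, ← hO.rf.coe_polar, ← mul_assoc, mul_comm _ l, mul_assoc, ← MulMemClass.coe_mul,
    inv_mul_cancel₀ (by rwa [polar_comm]), OneMemClass.coe_one, mul_one] at h1
  have h2 := hO.pull hd' hadp' h1 (c * (polar hO.rf.q e d')⁻¹)
  rw [polar_smul_left, smul_eq_mul, ← hO.rf.coe_polar, show ((c * (polar hO.rf.q e d')⁻¹ : F₀) : F) *
      (l * ((polar hO.rf.q e d' : F₀) : F)) = (c : F) * l * (((polar hO.rf.q e d')⁻¹ * polar hO.rf.q e d' : F₀) : F) by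
        push_cast; ring,
    inv_mul_cancel₀ hed', OneMemClass.coe_one, mul_one] at h2
  exact h2

theorem Lp.const_one {hO : Over F₀ H} {a d d' : ι → F₀} {l : F} (had : hO.Adj a d) (had' : hO.Adj a d')
    (h : hO.Lp a d l) : hO.Lp a d' l := by
  simpa using h.const had had' 1

/-- the parameters form a subfield -/
theorem lp_all (hO : Over F₀ H) {z r : ι → F₀} (hzr : hO.Adj z r) {l₀ : F} (hl₀ : hO.Lp z r l₀) (hirr : l₀ ∉ F₀)
    (c : F) : hO.Lp z r c := by
  have hn := hO.n7
  obtain ⟨hz, hr, hzrp, hz0, hrn⟩ := hzr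
  have hzr : hO.Adj z r := ⟨hz, hr, hzrp, hz0, hrn⟩
  have hC0 : ∀ a ∈ F₀, hO.Lp z r a := fun a ha => by
    have := hO.sieg z ((⟨a, ha⟩ : F₀) • r) hz (by rw [polar_smul_right, hzrp, smul_zero])
    rwa [up_smul] at this
  -- the configuration
  obtain ⟨d, hd, hdq, hdn⟩ := hO.rf.exists_out (hO.rf.ts_pair hz hr hzrp)
    (by have := finrank_span_pair_le (K := F₀) z r; omega) (Submodule.span F₀ {z, r}) (fun hle => by
      have h1 := Submodule.finrank_mono hle
      have h2 := hO.rf.finrank_perp₀ (Submodule.span F₀ {z, r})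
      have := finrank_span_pair_le (K := F₀) z r
      omega)
  obtain ⟨hzd, hrd⟩ := mem_perp_pair.1 hd
  have hzdA : hO.Adj z d := ⟨hz, hdq, hzd, hz0, fun hm => hdn (Submodule.span_mono (by simp) hm)⟩
  obtain ⟨e, he, heq, hre⟩ := hO.rf.exists_partner (hO.rf.ts_pair hz hdq hzd) (b := r)
    (mem_perp_pair.2 ⟨hzrp, by rw [polar_comm, hrd]⟩) hr (fun hm => by
      obtain ⟨s, t, e'⟩ := Submodule.mem_span_pair.1 hm
      rcases eq_or_ne t 0 with rfl | ht
      · exact hrn (Submodule.mem_span_singleton.2 ⟨s, by rw [← e', zero_smul, add_zero]⟩)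
      · exact hdn (Submodule.mem_span_pair.2 ⟨-(t⁻¹ * s), t⁻¹, by
          rw [← e', smul_add, smul_smul, smul_smul, inv_mul_cancel₀ ht]; module⟩))
  obtain ⟨hze, hde⟩ := mem_perp_pair.1 he
  have hdeA : hO.Adj d e := ⟨hdq, heq, hde, hzdA.symm.2.2.2.1, fun hm => by
    obtain ⟨s, rfl⟩ := Submodule.mem_span_singleton.1 hm
    rw [polar_smul_right, hrd, smul_zero] at hre
    exact zero_ne_one hre⟩
  have hmul : ∀ l m, hO.Lp z r l → hO.Lp z r m → hO.Lp z r (l * m) := fun l m hl hm => by
    have hde' : hO.Lp d e m := ((hm.const_one hzr hzdA).swap hzdA).const_one hzdA.symm hdeA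
    have hed : hO.Lp e d m := hde'.swap hdeA
    obtain ⟨hp, hpw, hh⟩ := hl
    have e1 : (sO hp hpw).1 (up e) = up e + l • up z := by
      rw [sO_apply, polar_smul_right, polar_comm Q (up e) (up r), ← hO.rf.coe_polar, hre, polar_comm Q (up e) (up z),
        hO.perp_up hze]
      simp
    have e2 : (sO hp hpw).1 (m • up d) = m • up d := by
      rw [map_smul, sO_apply, polar_smul_right, polar_comm Q (up d) (up r), hO.perp_up hrd, polar_comm Q (up d) (up z),
        hO.perp_up hzd]
      simp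
    have h1 : Mem H (up e + l • up z) (m • up d) := e1 ▸ e2 ▸ Mem.conj hed hh
    have hdu := hO.sing_up hdq
    have h2 := (h1.symm (by rw [map_smul', hdu, mul_zero])).smul_left hdu (polar_perp_neg (polar_perp_add
      (hO.perp_up hde) (polar_perp_smul (by rw [polar_comm]; exact hO.perp_up hzd) l)))
    have h3 : hO.Lp d z (-(l * m)) := by
      show Mem H (up d) ((-(l * m)) • up z)
      convert Mem.add h2 hde' using 1
      module
    simpa using ((h3.swap hzdA.symm).const_one hzdA hzr).neg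
  have hpow : ∀ a, hO.Lp z r a → ∀ n : ℕ, hO.Lp z r (a ^ n) := fun a ha n => by
    induction n with
    | zero => rw [pow_zero]; exact hC0 1 F₀.one_mem
    | succ n ih => rw [pow_succ]; exact hmul _ _ ih ha
  let S : Subfield F :=
    { carrier := {a | hO.Lp z r a}
      mul_mem' := fun ha hb => hmul _ _ ha hb
      one_mem' := hC0 1 F₀.one_mem
      add_mem' := fun ha hb => Lp.add (hO := hO) ha hb
      zero_mem' := hC0 0 F₀.zero_mem
      neg_mem' := fun ha => Lp.neg (hO := hO) ha
      inv_mem' := fun a ha => by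
        rcases eq_or_ne a 0 with rfl | h0
        · simpa using ha
        have : a⁻¹ = a ^ (Fintype.card F - 2) := by
          refine inv_eq_of_mul_eq_one_right ?_
          rw [← pow_succ', show Fintype.card F - 2 + 1 = Fintype.card F - 1 by
            have := Fintype.one_lt_card (α := F); omega, FiniteField.pow_card_sub_one_eq_one a h0]
        show hO.Lp z r a⁻¹
        rw [this]; exact hpow a ha _ }
  obtain ⟨p, hp, hcard⟩ := hO.prime
  have hle : F₀ ≤ S := fun a ha => hC0 a ha
  letI : Algebra F₀ S := (Subfield.inclusion hle).toAlgebra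
  haveI : IsScalarTower F₀ S F := IsScalarTower.of_algebraMap_eq fun _ => rfl
  have h0 : 1 < Nat.card F₀ := Finite.one_lt_card
  have hrk : finrank F₀ F = p := by
    have := Module.natCard_eq_pow_finrank (K := F₀) (V := F)
    rw [Nat.card_eq_fintype_card, hcard] at this
    exact (Nat.pow_right_injective h0 this).symm
  have htow := Module.finrank_mul_finrank F₀ S F
  rw [hrk] at htow
  rcases (Nat.dvd_prime hp).1 (Dvd.intro _ htow) with h1 | h1
  · exfalso
    have hS : Nat.card S = Nat.card F₀ := by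
      rw [Module.natCard_eq_pow_finrank (K := F₀) (V := S), h1, pow_one]
    have : (F₀ : Set F) = (S : Set F) := Set.eq_of_subset_of_ncard_le hle
      (by rw [← Nat.card_coe_set_eq, ← Nat.card_coe_set_eq]; exact hS.le)
    exact hirr (this.ge hl₀)
  · have h2 : finrank S F = 1 := by
      rw [h1] at htow
      exact Nat.eq_of_mul_eq_mul_left hp.pos (by rw [mul_one]; exact htow)
    have hSF : (S : Set F) = Set.univ := Set.eq_of_subset_of_ncard_le (Set.subset_univ _) (by
      rw [Set.ncard_univ, ← Nat.card_coe_set_eq, Module.natCard_eq_pow_finrank (K := S) (V := F), h2, pow_one]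
      exact le_rfl)
    exact Set.eq_univ_iff_forall.1 hSF c

/-- all parameters along one pair give all Siegel transformations with the first centre -/
theorem full_of_lp (hO : Over F₀ H) {z r : ι → F₀} (hzr : hO.Adj z r) (h : ∀ c, hO.Lp z r c) : Full H (up z) := by
  have hn := hO.n7
  have hzu := hO.sing_up hzr.1
  refine RootPlanes.full_of_tS hzu fun y hy => ?_
  have hrat : ∀ u ∈ perpS hO.rf.q (Submodule.span F₀ {z}), up u ∈ tS H hzu := by
    let X : Submodule F₀ (ι → F₀) :=
      { carrier := {u | up u ∈ tS H hzu}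
        zero_mem' := by show up 0 ∈ tS H hzu; rw [map_zero]; exact Submodule.zero_mem _
        add_mem' := fun {u v} hu hv => by show up (u + v) ∈ tS H hzu; rw [map_add]; exact Submodule.add_mem _ hu hv
        smul_mem' := fun c u hu => by show up (c • u) ∈ tS H hzu; rw [up_smul]; exact Submodule.smul_mem _ _ hu }
    refine hO.rf.perp_le (hO.rf.ts_singleton hzr.1) (by have := finrank_span_singleton_le (K := F₀) z; omega) X ?_
    intro s hs hsq
    have hzs := mem_perp_singleton.1 hs
    refine ⟨hO.perp_up hzs, fun a ha => ?_⟩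
    by_cases hsz : s ∈ Submodule.span F₀ ({z} : Set (ι → F₀))
    · obtain ⟨t, rfl⟩ := Submodule.mem_span_singleton.1 hsz
      rw [sO_congr hzu ha (polar_perp_smul (by rw [polar_self', hzu, mul_zero]) (a * (t : F)))
        (by rw [up_smul, smul_smul]), sO_smul_self]
      exact one_mem H
    · exact Mem.mem ((h a).const_one hzr ⟨hzr.1, hsq, hzs, hzr.2.2.2.1, hsz⟩) hzu ha
  refine (rsp_le hrat) (hO.rf.mem_rsp_of_perp fun u hu => ?_)
  obtain ⟨t, rfl⟩ := Submodule.mem_span_singleton.1 (hO.rf.mem_perp_perp (x := u) fun v hv => by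
    rw [polar_comm]; exact hu v hv)
  rw [up_smul, polar_smul_right, polar_comm, hy, smul_zero]

/-- an irrational parameter generates everything -/
theorem eo_of_irr (hO : Over F₀ H) {z : ι → F₀} (hz0 : z ≠ 0) {w : ι → F} (hw : Mem H (up z) w)
    (hirr : ¬ ∃ (b : ι → F₀) (t : F), w = up b + t • up z) : eo Q ≤ H := by
  have hn := hO.n7
  have hz : hO.rf.q z = 0 := hO.rf.q_eq_zero.2 hw.sing
  obtain ⟨f, -, hf, hzf⟩ := hO.rf.exists_partner hO.rf.ts_bot (b := z)
    (mem_perpS.2 fun u hu => by rw [(Submodule.mem_bot _).1 hu, polar_zero_left]) hz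
    (fun hm => hz0 ((Submodule.mem_bot _).1 hm))
  obtain ⟨r, hr, hzr, hB⟩ : ∃ r, hO.rf.q r = 0 ∧ polar hO.rf.q z r = 0 ∧ polar Q w (up r) ∉ F₀ := by
    by_contra! hall
    let X : Submodule F₀ (ι → F₀) :=
      { carrier := {u | polar Q w (up u) ∈ F₀}
        zero_mem' := by show polar Q w (up 0) ∈ F₀; rw [map_zero, polar_zero_right]; exact F₀.zero_mem
        add_mem' := fun {u v} hu hv => by
          show polar Q w (up (u + v)) ∈ F₀; rw [map_add, polar_add_right]; exact F₀.add_mem hu hv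
        smul_mem' := fun c u hu => by
          show polar Q w (up (c • u)) ∈ F₀; rw [up_smul, polar_smul_right]; exact F₀.mul_mem c.2 hu }
    have hX : perpS hO.rf.q (Submodule.span F₀ {z}) ≤ X := hO.rf.perp_le (hO.rf.ts_singleton hz)
      (by have := finrank_span_singleton_le (K := F₀) z; omega) X fun y hy hyq => hall y hyq (mem_perp_singleton.1 hy)
    have hmem : ∀ y, polar Q w (up (y - polar hO.rf.q z y • f)) ∈ F₀ := fun y => hX (mem_perp_singleton.2 (by
      rw [polar_sub_right, polar_smul_right, hzf, smul_eq_mul, mul_one, sub_self]))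
    let ψ : (ι → F₀) →ₗ[F₀] F₀ :=
      { toFun := fun y => ⟨_, hmem y⟩
        map_add' := fun a b => Subtype.ext (by
          show polar Q w (up (a + b - polar hO.rf.q z (a + b) • f)) =
            polar Q w (up (a - polar hO.rf.q z a • f)) + polar Q w (up (b - polar hO.rf.q z b • f))
          rw [← polar_add_right, ← map_add, polar_add_right]
          congr 2
          module)
        map_smul' := fun t a => Subtype.ext (by
          show polar Q w (up (t • a - polar hO.rf.q z (t • a) • f)) = (t : F) * polar Q w (up (a - polar hO.rf.q z a • f))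
          rw [← smul_eq_mul, ← polar_smul_right, ← up_smul, polar_smul_right, smul_eq_mul, smul_sub, smul_smul]) }
    set b := (LinearMap.BilinForm.toDual (polarBilin hO.rf.q) hO.rf.nd₀).symm ψ with hb
    have hbψ : ∀ y, polar hO.rf.q b y = ψ y := fun y =>
      LinearMap.BilinForm.apply_toDual_symm_apply (B := polarBilin hO.rf.q) (hB := hO.rf.nd₀) ψ y
    have hd : w - up b ∈ rsp (Submodule.span F₀ {z}) := hO.rf.mem_rsp_of_perp fun u hu => by
      rw [polar_sub_left, ← hO.rf.coe_polar, hbψ u]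
      show polar Q w (up u) - polar Q w (up (u - polar hO.rf.q z u • f)) = 0
      rw [hu z (Submodule.mem_span_singleton_self z), zero_smul, sub_zero, sub_self]
    rw [rsp_span_singleton] at hd
    obtain ⟨t, ht⟩ := Submodule.mem_span_singleton.1 hd
    exact hirr ⟨b, t, by rw [ht]; abel⟩
  have hzrA : hO.Adj z r := ⟨hz, hr, hzr, hz0, fun hm => hB (by
    obtain ⟨t, rfl⟩ := Submodule.mem_span_singleton.1 hm
    rw [up_smul, polar_smul_right, polar_comm, hw.perp, smul_zero]
    exact F₀.zero_mem)⟩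
  have hall := hO.lp_all hzrA (l₀ := polar Q w (up r)) (by
    have := hO.pull hr hzr hw 1
    rwa [OneMemClass.coe_one, one_mul] at this) hB
  obtain ⟨r', hr', hr'0, hr'q⟩ := NdFour.exists_sing_mem (Q := hO.rf.q) (perpS hO.rf.q (Submodule.span F₀ {z, f}))
    (by have := hO.rf.finrank_perp₀ (Submodule.span F₀ {z, f}); have := finrank_span_pair_le (K := F₀) z f; omega)
  obtain ⟨hzr', hfr'⟩ := mem_perp_pair.1 hr'
  have hzA' : hO.Adj z r' := ⟨hz, hr'q, hzr', hz0, fun hm => by
    obtain ⟨t, rfl⟩ := Submodule.mem_span_singleton.1 hm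
    rw [polar_smul_right, polar_comm, hzf, smul_eq_mul, mul_one] at hfr'
    exact hr'0 (by rw [hfr', zero_smul])⟩
  have hf0 : f ≠ 0 := fun e => by rw [e, polar_zero_right] at hzf; exact zero_ne_one hzf
  have hfA' : hO.Adj f r' := ⟨hf, hr'q, hfr', hf0, fun hm => by
    obtain ⟨t, rfl⟩ := Submodule.mem_span_singleton.1 hm
    rw [polar_smul_right, hzf, smul_eq_mul, mul_one] at hzr'
    exact hr'0 (by rw [hzr', zero_smul])⟩
  refine RootPlanes.eo_le hO.rf.nd (by rw [Module.finrank_fintype_fun_eq_card]; omega)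
    (hO.full_of_lp hzrA hall) (hO.full_of_lp hfA' fun c =>
      (((hall c).const_one hzrA hzA').swap hzA' |>.const_one hzA'.symm hfA'.symm).swap hfA'.symm) ?_
  rw [← hO.rf.coe_polar, hzf]
  exact one_ne_zero

end Over

end Cfsg.Agent.ClassicalMax.Subfield.Odd
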